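import Cfsg.Agent.CharThreeDegrees.Series
import Cfsg.Agent.Char.RelDegree
import Cfsg.Agent.Char.TwoDegrees
import Cfsg.Agent.Char.Gallagher
import Cfsg.Agent.CharArith.Central
import Mathlib

/-!
# Solvable groups with three coprime degrees
-/

set_option autoImplicit false

namespace Cfsg.Agent.CharThreeDegrees

open scoped ComplexConjugate commutatorElement
open Cfsg.Agent.Char

universe u

noncomputable local instance (priority := 100000) linGroupH {H : Type*} [Group H] {K : Subgroup H} :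
    CommGroup (K →* ℂˣ) := MonoidHom.instCommGroup

variable {Q : Type u} [Group Q] [Finite Q]

/-- Structure of a solvable nonabelian group in which every nontrivial normal subgroup contains
the derived subgroup: prime power order, or a fixed-point-free abelian complement action. -/
theorem just_nonabelian (hna : ¬ ∀ a b : Q, a * b = b * a) (hsol : Group.IsSolvable Q)
    (hJ : ∀ N : Subgroup Q, N.Normal → N ≠ ⊥ → commutator Q ≤ N) :
    ∃ q : ℕ, q.Prime ∧ ((∃ k, Nat.card Q = q ^ k) ∨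
      ((∀ v ∈ commutator Q, v ^ q = 1) ∧ commutator Q ≠ ⊥ ∧ commutator Q ≠ ⊤ ∧
        ¬ q ∣ (commutator Q).index ∧
        ∀ y ∉ commutator Q, ∀ v ∈ commutator Q,
          ∃ w ∈ commutator Q, v = y * w * y⁻¹ * w⁻¹)) := by
  classical
  set V := commutator Q with hV
  have hVbot : V ≠ ⊥ := fun h => hna fun a b => commutatorElement_eq_one_iff_mul_comm.1
    (Subgroup.mem_bot.1 (h ▸ Subgroup.commutator_mem_commutator trivial trivial))
  have hmemV : ∀ a b : Q, ⁅a, b⁆ ∈ V := fun a b => Subgroup.commutator_mem_commutator trivial trivial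
  have hab : ∀ a ∈ V, ∀ b ∈ V, a * b = b * a := by
    have hlt : ⁅V, V⁆ < V := lt_of_le_of_ne (Subgroup.commutator_le_self V) fun e => by
      obtain ⟨n, hn⟩ := (Group.isSolvable_def Q).1 hsol
      have : ∀ k, V ≤ derivedSeries Q k := fun k => by
        induction k with
        | zero => exact le_top
        | succ k ih => rw [derivedSeries_succ, ← e]; exact Subgroup.commutator_mono ih ih
      exact hVbot (le_bot_iff.1 (hn ▸ this n))
    have hbot : ⁅V, V⁆ = ⊥ := by
      by_contra hne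
      exact hlt.not_ge (hJ _ inferInstance hne)
    exact fun a ha b hb => commutatorElement_eq_one_iff_mul_comm.1 (Subgroup.mem_bot.1
      (hbot ▸ Subgroup.commutator_mem_commutator ha hb))
  have hVtop : V ≠ ⊤ := fun h => hna fun a b => hab a (h ▸ Subgroup.mem_top a) b (h ▸ Subgroup.mem_top b)
  obtain ⟨q, hq, hqV⟩ := Nat.exists_prime_and_dvd (n := Nat.card V)
    (fun h => hVbot (Subgroup.card_eq_one.1 h))
  have := Fact.mk hq
  -- exponent `q`
  have hexp : ∀ v ∈ V, v ^ q = 1 := by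
    let T : Subgroup Q :=
      { carrier := {v | v ∈ V ∧ v ^ q = 1}
        one_mem' := ⟨V.one_mem, one_pow q⟩
        mul_mem' := fun {a b} ha hb => ⟨V.mul_mem ha.1 hb.1, by
          rw [(show Commute a b from hab a ha.1 b hb.1).mul_pow, ha.2, hb.2, one_mul]⟩
        inv_mem' := fun {a} ha => ⟨V.inv_mem ha.1, by rw [inv_pow, ha.2, inv_one]⟩ }
    have hTn : T.Normal := ⟨fun v hv g => ⟨(inferInstance : V.Normal).conj_mem v hv.1 g, by
      rw [conj_pow, hv.2, mul_one, mul_inv_cancel]⟩⟩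
    have hTne : T ≠ ⊥ := fun h => by
      obtain ⟨v, hv⟩ := exists_prime_orderOf_dvd_card' q hqV
      have h1 : (v : Q) ∈ T := ⟨v.2, by
        rw [← SubmonoidClass.coe_pow, ← hv, pow_orderOf_eq_one, OneMemClass.coe_one]⟩
      rw [h, Subgroup.mem_bot, OneMemClass.coe_eq_one] at h1
      rw [h1, orderOf_one] at hv
      exact hq.ne_one hv.symm
    exact fun v hv => (hJ T hTn hTne hv).2
  refine ⟨q, hq, ?_⟩
  by_cases hcen : V ≤ Subgroup.center Q
  · -- the group is a `q`-group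
    left
    have hpow : ∀ x : Q, x ^ q ∈ Subgroup.center Q := by
      intro x
      refine Subgroup.mem_center_iff.2 fun y => mul_inv_eq_iff_eq_mul.1 ?_
      have hd := hmemV y x
      have hc : Commute ⁅y, x⁆ x := (Subgroup.mem_center_iff.1 (hcen hd) x).symm
      rw [← conj_pow, show y * x * y⁻¹ = ⁅y, x⁆ * x by rw [commutatorElement_def]; group,
        hc.mul_pow, hexp _ hd, one_mul]
    have hZ : IsPGroup q (Subgroup.center Q) := by
      refine IsPGroup.of_card (n := (Nat.card (Subgroup.center Q)).primeFactorsList.length) ?_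
      refine Nat.eq_prime_pow_of_unique_prime_dvd Nat.card_pos.ne' fun {r} hr hrd => ?_
      by_contra hrq
      have := Fact.mk hr
      obtain ⟨z, hz⟩ := exists_prime_orderOf_dvd_card' r hrd
      have hzn : (Subgroup.zpowers (z : Q)).Normal := ⟨fun a ha g => by
        rwa [(Subgroup.mem_center_iff.1 ((Subgroup.zpowers_le.2 z.2) ha) g), mul_inv_cancel_right]⟩
      have hzne : Subgroup.zpowers (z : Q) ≠ ⊥ := fun h => by
        rw [Subgroup.zpowers_eq_bot, OneMemClass.coe_eq_one] at h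
        rw [h, orderOf_one] at hz
        exact hr.ne_one hz.symm
      obtain ⟨v, hv⟩ := exists_prime_orderOf_dvd_card' q hqV
      have h1 := orderOf_dvd_of_mem_zpowers (hJ _ hzn hzne v.2)
      rw [Subgroup.orderOf_coe, Subgroup.orderOf_coe, hv, hz] at h1
      exact hrq ((Nat.prime_dvd_prime_iff_eq hq hr).1 h1).symm
    refine IsPGroup.iff_card.1 fun x => ?_
    obtain ⟨k, hk⟩ := hZ ⟨x ^ q, hpow x⟩
    exact ⟨k + 1, by rw [pow_succ', pow_mul]; simpa using congrArg Subtype.val hk⟩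
  right
  -- centralisers
  have hfpf : ∀ y : Q, y ∉ Subgroup.centralizer (V : Set Q) → ∀ v ∈ V, y * v = v * y → v = 1 := by
    intro y hy v hv hyv
    by_contra hv1
    set W := V ⊓ Subgroup.centralizer ({y} : Set Q) with hW
    have hWn : W.Normal := by
      refine ⟨fun w hw g => ⟨(inferInstance : V.Normal).conj_mem w hw.1 g, ?_⟩⟩
      refine Subgroup.mem_centralizer_singleton_iff.2 ?_
      have hwy : w * y = y * w := Subgroup.mem_centralizer_singleton_iff.1 hw.2
      have hz : w * ⁅g⁻¹, y⁆ = ⁅g⁻¹, y⁆ * w := hab w hw.1 _ (hmemV _ _)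
      have h1 : w * (⁅g⁻¹, y⁆ * y) = ⁅g⁻¹, y⁆ * y * w := by
        rw [← mul_assoc, hz, mul_assoc, hwy, ← mul_assoc]
      rw [show ⁅g⁻¹, y⁆ * y = g⁻¹ * y * g by rw [commutatorElement_def]; group] at h1
      calc g * w * g⁻¹ * y = g * (w * (g⁻¹ * y * g)) * g⁻¹ := by group
        _ = g * (g⁻¹ * y * g * w) * g⁻¹ := by rw [h1]
        _ = y * (g * w * g⁻¹) := by group
    have hWne : W ≠ ⊥ := fun h => hv1 (Subgroup.mem_bot.1 (h ▸
      (⟨hv, Subgroup.mem_centralizer_singleton_iff.2 hyv.symm⟩ : v ∈ W)))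
    refine hy (Subgroup.mem_centralizer_iff.2 fun a ha => ?_)
    exact Subgroup.mem_centralizer_singleton_iff.1 (hJ W hWn hWne ha).2
  have hsurj : ∀ y : Q, y ∉ Subgroup.centralizer (V : Set Q) → ∀ v ∈ V,
      ∃ w ∈ V, v = y * w * y⁻¹ * w⁻¹ := by
    intro y hy v hv
    let f : V → V := fun w => ⟨y * (w : Q) * y⁻¹ * (w : Q)⁻¹,
      V.mul_mem ((inferInstance : V.Normal).conj_mem _ w.2 y) (V.inv_mem w.2)⟩
    have hinj : Function.Injective f := by
      intro a b h
      have h1 : y * (a : Q) * y⁻¹ * (a : Q)⁻¹ = y * (b : Q) * y⁻¹ * (b : Q)⁻¹ :=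
        congrArg Subtype.val h
      apply Subtype.ext
      rw [← mul_inv_eq_one]
      refine hfpf y hy _ (V.mul_mem a.2 (V.inv_mem b.2)) ?_
      have h2 : (a : Q)⁻¹ * (b : Q) = (b : Q) * (a : Q)⁻¹ := hab _ (V.inv_mem a.2) _ b.2
      have h3 : y * (b : Q)⁻¹ * y⁻¹ * (b : Q) = (b : Q) * (y * (b : Q)⁻¹ * y⁻¹) :=
        hab _ ((inferInstance : V.Normal).conj_mem _ (V.inv_mem b.2) y) _ b.2
      calc y * ((a : Q) * (b : Q)⁻¹) = y * a * y⁻¹ * (y * (b : Q)⁻¹ * y⁻¹) * y := by group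
        _ = (y * a * y⁻¹ * (a : Q)⁻¹) * a * (y * (b : Q)⁻¹ * y⁻¹) * y := by group
        _ = (y * b * y⁻¹ * (b : Q)⁻¹) * a * (y * (b : Q)⁻¹ * y⁻¹) * y := by rw [h1]
        _ = y * b * y⁻¹ * ((b : Q)⁻¹ * (a : Q)) * (y * (b : Q)⁻¹ * y⁻¹) * y := by group
        _ = ((b : Q)⁻¹ * (a : Q)) * (y * b * y⁻¹) * (y * (b : Q)⁻¹ * y⁻¹) * y := by
          rw [hab _ ((inferInstance : V.Normal).conj_mem _ b.2 y) _ (V.mul_mem (V.inv_mem b.2) a.2)]
        _ = (b : Q)⁻¹ * a * y := by group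
        _ = (a : Q) * (b : Q)⁻¹ * y := by rw [hab _ (V.inv_mem b.2) _ a.2]
    obtain ⟨w, hw⟩ := (Finite.injective_iff_surjective.1 hinj) ⟨v, hv⟩
    exact ⟨w, w.2, (congrArg Subtype.val hw).symm⟩
  obtain ⟨y₀, hy₀⟩ : ∃ y₀ : Q, y₀ ∉ Subgroup.centralizer (V : Set Q) := by
    by_contra! h
    exact hcen fun v hv => Subgroup.mem_center_iff.2 fun g =>
      ((Subgroup.mem_centralizer_iff.1 (h g)) v hv).symm
  have hCV : ∀ d : Q, d ∈ Subgroup.centralizer (V : Set Q) → d ∈ V := by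
    intro d hd
    have hdc : ∀ u ∈ V, u * d = d * u := Subgroup.mem_centralizer_iff.1 hd
    obtain ⟨v, hv, hve⟩ := hsurj y₀ hy₀ _ (hmemV y₀ d)
    rw [commutatorElement_def] at hve
    set d' := d * v⁻¹ with hd'
    have hdc' : ∀ u ∈ V, u * d' = d' * u := fun u hu => by
      rw [hd', ← mul_assoc, hdc u hu, mul_assoc, hab u hu _ (V.inv_mem hv), mul_assoc]
    have hy' : y₀ * d' = d' * y₀ := by
      have hA := (inferInstance : V.Normal).conj_mem v hv y₀
      calc y₀ * d' = (y₀ * d * y₀⁻¹ * d⁻¹) * d * (y₀ * v⁻¹ * y₀⁻¹) * y₀ := by rw [hd']; group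
        _ = (y₀ * v * y₀⁻¹ * v⁻¹) * d * (y₀ * v⁻¹ * y₀⁻¹) * y₀ := by rw [hve]
        _ = (y₀ * v * y₀⁻¹ * v⁻¹) * ((y₀ * v⁻¹ * y₀⁻¹) * d) * y₀ := by
          rw [hdc _ ((inferInstance : V.Normal).conj_mem _ (V.inv_mem hv) y₀)]; group
        _ = (v⁻¹ * (y₀ * v * y₀⁻¹)) * ((y₀ * v⁻¹ * y₀⁻¹) * d) * y₀ := by
          rw [hab _ (V.inv_mem hv) _ hA]
        _ = v⁻¹ * d * y₀ := by group
        _ = d' * y₀ := by rw [hd', hdc _ (V.inv_mem hv)]
    have hcent : d' ∈ Subgroup.center Q := by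
      refine Subgroup.mem_center_iff.2 fun x => commutatorElement_eq_one_iff_mul_comm.1 ?_
      refine hfpf y₀ hy₀ _ (hmemV x d') ?_
      have hz := hmemV y₀ x
      have hyc : y₀ * d' * y₀⁻¹ = d' := by rw [hy', mul_inv_cancel_right]
      have h1 : y₀ * ⁅x, d'⁆ * y₀⁻¹ = ⁅x, d'⁆ := by
        calc y₀ * ⁅x, d'⁆ * y₀⁻¹
            = ⁅y₀ * x * y₀⁻¹, y₀ * d' * y₀⁻¹⁆ := by simp only [commutatorElement_def]; group
          _ = ⁅⁅y₀, x⁆ * x, d'⁆ := by
              rw [hyc, show ⁅y₀, x⁆ * x = y₀ * x * y₀⁻¹ by rw [commutatorElement_def]; group]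
          _ = ⁅y₀, x⁆ * ⁅x, d'⁆ * (d' * ⁅y₀, x⁆⁻¹) * d'⁻¹ := by
              simp only [commutatorElement_def]; group
          _ = ⁅x, d'⁆ := by
              rw [← hdc' _ (V.inv_mem hz), hab _ hz _ (hmemV x d')]; group
      exact mul_inv_eq_iff_eq_mul.1 h1
    by_cases hd1 : d' = 1
    · rw [hd', mul_inv_eq_one] at hd1
      exact hd1 ▸ hv
    · refine absurd (hJ (Subgroup.center Q) inferInstance fun h => hd1 ?_) hcen
      exact Subgroup.mem_bot.1 (h ▸ hcent)
  refine ⟨hexp, hVbot, hVtop, fun hdvd => ?_, fun y hy v hv => hsurj y (fun h => hy (hCV y h)) v hv⟩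
  -- fixed points of an element of `q`-power order
  rw [Subgroup.index_eq_card] at hdvd
  obtain ⟨yq, hyq⟩ := exists_prime_orderOf_dvd_card' q hdvd
  obtain ⟨y, rfl⟩ := QuotientGroup.mk_surjective yq
  have hyV : y ∉ V := fun h => by
    rw [(QuotientGroup.eq_one_iff y).2 h, orderOf_one] at hyq
    exact hq.ne_one hyq.symm
  have hyqV : y ^ q ∈ V := (QuotientGroup.eq_one_iff _).1 (by
    rw [QuotientGroup.mk_pow, ← hyq, pow_orderOf_eq_one])
  have hP : IsPGroup q (Subgroup.zpowers y) := by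
    obtain ⟨k, -, hk⟩ := (Nat.dvd_prime_pow hq).1
      (orderOf_dvd_of_pow_eq_one (show y ^ q ^ 2 = 1 by rw [sq, pow_mul, hexp _ hyqV]))
    exact IsPGroup.of_card ((Nat.card_zpowers y).trans hk)
  letI : MulAction (Subgroup.zpowers y) V :=
    MulAction.compHom V (((MulAut.conjNormal (H := V)).comp (Subgroup.zpowers y).subtype))
  have hfix := hP.card_modEq_card_fixedPoints V
  have h1fix : (1 : V) ∈ MulAction.fixedPoints (Subgroup.zpowers y) V := fun g =>
    Subtype.ext (show (g : Q) * 1 * (g : Q)⁻¹ = 1 by group)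
  have := Fintype.ofFinite (MulAction.fixedPoints (Subgroup.zpowers y) V)
  have hlt : 1 < Nat.card (MulAction.fixedPoints (Subgroup.zpowers y) V) := by
    have h2 : q ∣ Nat.card (MulAction.fixedPoints (Subgroup.zpowers y) V) :=
      (Nat.ModEq.dvd_iff hfix dvd_rfl).1 hqV
    have : Nonempty (MulAction.fixedPoints (Subgroup.zpowers y) V) := ⟨⟨1, h1fix⟩⟩
    exact lt_of_lt_of_le hq.one_lt (Nat.le_of_dvd Nat.card_pos h2)
  haveI := Finite.one_lt_card_iff_nontrivial.1 hlt
  obtain ⟨w, hw⟩ := exists_ne (⟨1, h1fix⟩ : MulAction.fixedPoints (Subgroup.zpowers y) V)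
  apply hw
  apply Subtype.ext
  apply Subtype.ext
  refine hfpf y (fun h => hyV (hCV y h)) _ (w : V).2 (mul_inv_eq_iff_eq_mul.1 ?_)
  exact congrArg Subtype.val (w.2 ⟨y, Subgroup.mem_zpowers y⟩)

variable {G : Type u} [Group G] [Fintype G]

/-- A solvable group with three coprime degrees has derived length at most three. -/
theorem case_two {m n : ℕ} (hd : Deg G m n) (hm : 1 < m) (hn : 1 < n) (hcop : m.Coprime n)
    (hma : ∃ χ : IrrCharacter G, Cfsg.charDegree (χ : G → ℂ) = m)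
    (hnb : ∃ χ : IrrCharacter G, Cfsg.charDegree (χ : G → ℂ) = n)
    (hsol : Group.IsSolvable G) : derivedSeries G 3 = ⊥ := by
  classical
  have hab : ¬ ∀ a b : G, a * b = b * a := fun h => by
    obtain ⟨χ, hχ⟩ := hma
    have := forall_degree_one_iff.2 h χ
    rw [charDegree_spec' χ, hχ, Nat.cast_eq_one] at this
    omega
  obtain ⟨K, hKmem, hKmax⟩ := Finset.exists_max_image
    (Finset.univ.filter fun K : Subgroup G => K.Normal ∧ ¬ commutator G ≤ K) (fun K => Nat.card K)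
    ⟨⊥, Finset.mem_filter.2 ⟨Finset.mem_univ _, inferInstance, fun h => hab fun a b =>
      commutatorElement_eq_one_iff_mul_comm.1
        (Subgroup.mem_bot.1 (h (Subgroup.commutator_mem_commutator trivial trivial)))⟩⟩
  obtain ⟨-, hKn, hKc⟩ := Finset.mem_filter.1 hKmem
  have := Fintype.ofFinite (G ⧸ K)
  have := Fintype.ofFinite K
  have hmapc : (commutator G).map (QuotientGroup.mk' K) = commutator (G ⧸ K) := by
    rw [commutator_def, Subgroup.map_commutator, Subgroup.map_top_of_surjective _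
      (QuotientGroup.mk'_surjective K), ← commutator_def]
  have hQna : ¬ ∀ a b : G ⧸ K, a * b = b * a := fun h => hKc fun x hx => by
    have h1 : (QuotientGroup.mk' K) x ∈ commutator (G ⧸ K) := hmapc ▸ ⟨x, hx, rfl⟩
    have h2 : commutator (G ⧸ K) = ⊥ := derivedSeries_one (G ⧸ K) ▸ derivedSeries_one_of_comm h
    rw [h2, Subgroup.mem_bot] at h1
    exact (QuotientGroup.eq_one_iff x).1 h1
  obtain ⟨q, hq, hcase⟩ := just_nonabelian hQna inferInstance fun N hN hne => by
    by_contra hle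
    have hlt : K < N.comap (QuotientGroup.mk' K) := by
      refine lt_of_le_of_ne (fun x hx => ?_) fun e => hne ?_
      · show (x : G ⧸ K) ∈ N
        rw [(QuotientGroup.eq_one_iff x).2 hx]
        exact N.one_mem
      · rw [← Subgroup.map_comap_eq_self_of_surjective (QuotientGroup.mk'_surjective K) N, ← e,
          QuotientGroup.map_mk'_self]
    have hle' := hKmax _ (Finset.mem_filter.2 ⟨Finset.mem_univ _, inferInstance, fun h => hle
      (hmapc ▸ Subgroup.map_le_iff_le_comap.2 h)⟩)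
    exact hlt.ne (Subgroup.eq_of_le_of_card_ge hlt.le hle')
  rcases hcase with ⟨k, hk⟩ | ⟨hexp, hVbot, hVtop, hqf, hsurj⟩
  · -- the quotient has prime power order
    exfalso
    obtain ⟨φ, hφ⟩ : ∃ φ : IrrCharacter (G ⧸ K), (φ : G ⧸ K → ℂ) 1 ≠ 1 := by
      by_contra! h; exact hQna (forall_degree_one_iff.1 h)
    have hf1 : Cfsg.charDegree (φ : G ⧸ K → ℂ) ≠ 1 := fun h => hφ (by
      rw [charDegree_spec' φ, h, Nat.cast_one])
    obtain ⟨i, -, hi⟩ := (Nat.dvd_prime_pow hq).1 (hk ▸ CharArith.charDegree_dvd_card φ.2)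
    obtain ⟨f, g, hdfg, hf, hg, hga⟩ : ∃ f g, Deg G f g ∧
        Cfsg.charDegree (φ : G ⧸ K → ℂ) = f ∧ f.Coprime g ∧
        1 < g ∧ 1 < f ∧ ∃ χ : IrrCharacter G, Cfsg.charDegree (χ : G → ℂ) = g := by
      rcases hd.quotient K φ with h | h | h
      · exact absurd h hf1
      · exact ⟨m, n, hd, h, hcop, hn, hm, hnb⟩
      · exact ⟨n, m, hd.swap, h, hcop.symm, hm, hn, hma⟩
    obtain ⟨hg1, hf1', χ, hχ⟩ := hga
    obtain ⟨θ, hθ⟩ := exists_constituent_res (N := K) χ.2
    obtain ⟨r, hr, hrd⟩ := ProjExt.exists_ratio_dvd_index χ.2 θ.2 hθ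
    have hr' := hr
    rw [charDegree_spec' χ, charDegree_spec' θ, ← Nat.cast_mul, Nat.cast_inj, hχ] at hr
    have hr1 : r = 1 := by
      rw [Subgroup.index_eq_card, hk] at hrd
      obtain ⟨j, -, rfl⟩ := (Nat.dvd_prime_pow hq).1 hrd
      rcases Nat.eq_zero_or_pos j with rfl | hj
      · exact pow_zero q
      exfalso
      have hi0 : i ≠ 0 := fun h0 => hf1 (by rw [hi, h0, pow_zero])
      have h1 : q ∣ f := by rw [← hf, hi]; exact dvd_pow_self q hi0
      have h2 : q ∣ g := hr ▸ (dvd_pow_self q hj.ne').mul_right _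
      exact hq.not_dvd_one (hg.gcd_eq_one ▸ Nat.dvd_gcd h1 h2)
    rw [hr1, Nat.cast_one, one_mul] at hr'
    have hres : IsIrrCharacter K (fun x : K => (χ : G → ℂ) x) := by
      rw [res_eq_of_degree_eq K (IsIrr.isCharacter χ.2) θ.2 hθ hr']
      exact θ.2
    have hirr : IsIrrCharacter G ((fun x : G => (φ : G ⧸ K → ℂ) x) * (χ : G → ℂ)) :=
      isIrr_mul_of_res_irr K χ.2 hres (isIrrCharacter_mk K φ.2) fun x hx => by
        show (φ : G ⧸ K → ℂ) x = (φ : G ⧸ K → ℂ) ((1 : G) : G ⧸ K)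
        rw [(QuotientGroup.eq_one_iff x).2 hx]; rfl
    have hdeg : Cfsg.charDegree ((fun x : G => (φ : G ⧸ K → ℂ) x) * (χ : G → ℂ)) = f * g :=
      charDegree_of_one (by
        rw [Pi.mul_apply, charDegree_spec' χ, hχ, Nat.cast_mul, QuotientGroup.mk_one,
          charDegree_spec' φ, hf])
    rcases hdfg ⟨_, hirr⟩ with h | h | h <;>
      (rw [hdeg] at h)
    · exact absurd (mul_eq_one.1 h).1 hf1'.ne'
    · exact absurd ((Nat.mul_eq_left (by omega)).1 h) hg1.ne'
    · exact absurd ((Nat.mul_eq_right (by omega)).1 h) hf1'.ne'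
  -- the fixed-point-free case
  set V := commutator (G ⧸ K) with hV
  set N := V.comap (QuotientGroup.mk' K) with hN
  have := Fintype.ofFinite N
  have hNc : commutator G ≤ N := fun x hx => by
    show (QuotientGroup.mk' K) x ∈ V
    rw [← hmapc]
    exact ⟨x, hx, rfl⟩
  have hidx : N.index = V.index :=
    Subgroup.index_comap_of_surjective _ (QuotientGroup.mk'_surjective K)
  set f := N.index with hf
  have hf1 : 1 < f := by
    rw [hidx]
    have h1 : V.index ≠ 1 := fun h => hVtop (Subgroup.index_eq_one.1 h)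
    have h2 : V.index ≠ 0 := Subgroup.index_ne_zero_of_finite
    omega
  -- characters of `N` factoring through `V`
  have hfix : ∀ (μ : N →* ℂˣ), (∀ x : N, (x : G) ∈ K → μ x = 1) → ∀ s ∉ N,
      RelDeg.cj s μ = μ → μ = 1 := by
    intro μ hμK s hs hcj
    refine MonoidHom.ext fun x => ?_
    obtain ⟨w, hw, hwe⟩ := hsurj (s : G ⧸ K) hs (x : G ⧸ K) x.2
    obtain ⟨w₀, rfl⟩ := QuotientGroup.mk_surjective w
    let W : N := ⟨w₀, hw⟩
    let Y : N := ⟨s * w₀ * s⁻¹, (inferInstance : N.Normal).conj_mem w₀ hw s⟩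
    have h1 : μ Y = μ W := DFunLike.congr_fun hcj W
    have h2 : μ ((Y * W⁻¹)⁻¹ * x) = 1 := hμK _ (by
      rw [← QuotientGroup.eq_one_iff]
      show (((s * w₀ * s⁻¹ * w₀⁻¹)⁻¹ * (x : G) : G) : G ⧸ K) = 1
      rw [QuotientGroup.mk_mul, QuotientGroup.mk_inv, QuotientGroup.mk_mul, QuotientGroup.mk_mul,
        QuotientGroup.mk_mul, QuotientGroup.mk_inv, QuotientGroup.mk_inv, ← hwe, inv_mul_cancel])
    rw [map_mul, map_inv, map_mul, map_inv, h1, mul_inv_cancel, inv_one, one_mul] at h2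
    rw [h2, MonoidHom.one_apply]
  have hpowN : ∀ (μ : N →* ℂˣ), (∀ x : N, (x : G) ∈ K → μ x = 1) → μ ^ q = 1 := by
    intro μ hμK
    refine MonoidHom.ext fun x => ?_
    rw [MonoidHom.pow_apply, MonoidHom.one_apply, ← map_pow]
    refine hμK _ ((QuotientGroup.eq_one_iff _).1 ?_)
    rw [SubmonoidClass.coe_pow, QuotientGroup.mk_pow]
    exact hexp _ x.2
  -- a nontrivial linear character
  obtain ⟨l, hlK, hl1⟩ : ∃ l : N →* ℂˣ, (∀ x : N, (x : G) ∈ K → l x = 1) ∧ l ≠ 1 := by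
    obtain ⟨v, hv, hv1⟩ : ∃ v ∈ V, v ≠ 1 := by
      by_contra! h; exact hVbot (eq_bot_iff.2 fun x hx => Subgroup.mem_bot.2 (h x hx))
    have := Fintype.ofFinite V
    obtain ⟨χ, hχ⟩ := exists_irr_ne_at_one (g := (⟨v, hv⟩ : V)) fun h => hv1 (congrArg Subtype.val h)
    obtain ⟨lam, hlam⟩ := IsChar.exists_hom (IsIrr.isCharacter χ.2)
      (IsIrr.degree_one_of_comm χ.2 fun a b => Subtype.ext (by
        by_contra hne
        obtain ⟨y, hy⟩ : ∃ y : G ⧸ K, y ∉ V := by
          by_contra! h; exact hVtop (eq_top_iff.2 fun x _ => h x)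
        have hd2 : ⁅V, V⁆ < V := lt_of_le_of_ne (Subgroup.commutator_le_self V) fun e => by
          obtain ⟨j, hj⟩ := (Group.isSolvable_def (G ⧸ K)).1 inferInstance
          have : ∀ k, V ≤ derivedSeries (G ⧸ K) k := fun k => by
            induction k with
            | zero => exact le_top
            | succ k ih => rw [derivedSeries_succ, ← e]; exact Subgroup.commutator_mono ih ih
          exact hVbot (le_bot_iff.1 (hj ▸ this j))
        have hbot : ⁅V, V⁆ = ⊥ := by
          by_contra hb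
          refine hd2.not_ge fun u hu => ?_
          have hlt : K < (⁅V, V⁆).comap (QuotientGroup.mk' K) := by
            refine lt_of_le_of_ne (fun x hx => ?_) fun e => hb ?_
            · show (x : G ⧸ K) ∈ ⁅V, V⁆
              rw [(QuotientGroup.eq_one_iff x).2 hx]
              exact one_mem _
            · rw [← Subgroup.map_comap_eq_self_of_surjective (QuotientGroup.mk'_surjective K)
                ⁅V, V⁆, ← e, QuotientGroup.map_mk'_self]
          by_contra hu'
          have hle' := hKmax _ (Finset.mem_filter.2 ⟨Finset.mem_univ _, inferInstance, fun h =>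
            hu' (Subgroup.map_le_iff_le_comap.2 h (hmapc.symm ▸ hu))⟩)
          exact hlt.ne (Subgroup.eq_of_le_of_card_ge hlt.le hle')
        exact hne (commutatorElement_eq_one_iff_mul_comm.1 (Subgroup.mem_bot.1
          (hbot ▸ Subgroup.commutator_mem_commutator a.2 b.2)))))
    refine ⟨lam.comp (((QuotientGroup.mk' K).comp N.subtype).codRestrict V fun x => x.2),
      fun x hx => ?_, fun h => hχ ?_⟩
    · rw [MonoidHom.comp_apply, show (((QuotientGroup.mk' K).comp N.subtype).codRestrict V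
        fun x => x.2) x = 1 from Subtype.ext ((QuotientGroup.eq_one_iff (x : G)).2 hx), map_one]
    · obtain ⟨x₀, rfl⟩ := QuotientGroup.mk_surjective v
      have h1 := DFunLike.congr_fun h (⟨x₀, hv⟩ : N)
      rw [hlam]
      show (lam _ : ℂ) = (lam 1 : ℂ)
      rw [map_one]
      exact congrArg Units.val h1
  have hcjK : ∀ (s : G) (μ : N →* ℂˣ), (∀ x : N, (x : G) ∈ K → μ x = 1) →
      ∀ x : N, (x : G) ∈ K → RelDeg.cj s μ x = 1 := fun s μ hμ x hx =>
    hμ _ (hKn.conj_mem _ hx s)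
  -- `f` is a degree
  have hinl : inertia (RelDeg.lf N l) = N := by
    refine le_antisymm (fun s hs => ?_) (le_inertia (isClassFunction_of_isIrr (isIrrCharacter_hom l)))
    by_contra hsN
    exact hl1 (hfix l hlK s hsN (RelDeg.lf_inj ((RelDeg.conjFun_lf s l).symm.trans hs)))
  have hfd : Cfsg.charDegree (indFun N (RelDeg.lf N l)) = f := charDegree_of_one (by
    rw [indFun_apply_one, RelDeg.lf, map_one, Units.val_one, mul_one])
  obtain ⟨g, hdg, hg, hg1⟩ : ∃ g, Deg G f g ∧ f.Coprime g ∧ 1 < g := by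
    rcases hd ⟨_, isIrr_indFun_of_inertia (isIrrCharacter_hom l) hinl⟩ with h | h | h
    · exact absurd (hfd.symm.trans h) hf1.ne'
    · exact ⟨n, (hfd.symm.trans h) ▸ hd, (hfd.symm.trans h) ▸ hcop, hn⟩
    · exact ⟨m, (hfd.symm.trans h) ▸ hd.swap, (hfd.symm.trans h) ▸ hcop.symm, hm⟩
  -- degrees of `N`
  have hdN : ∀ θ : IrrCharacter N, Cfsg.charDegree (θ : N → ℂ) = 1 ∨
      Cfsg.charDegree (θ : N → ℂ) = g := by
    intro θ
    by_contra! hθ
    obtain ⟨hθ1, hθg⟩ := hθ
    set b := Cfsg.charDegree (θ : N → ℂ) with hb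
    have hover : ∀ η : IrrCharacter N, Cfsg.charDegree (η : N → ℂ) = b →
        inertia (η : N → ℂ) ≠ N ∧ b ∣ f := by
      intro η hη
      obtain ⟨χ, hχ⟩ := exists_over N η
      obtain ⟨r, hr, hrd⟩ := ProjExt.exists_ratio_dvd_index χ.2 η.2 hχ
      rw [charDegree_spec' χ, charDegree_spec' η, ← Nat.cast_mul, Nat.cast_inj, hη] at hr
      have hχf : Cfsg.charDegree (χ : G → ℂ) = f := by
        rcases hdg χ with h | h | h
        · rw [h] at hr
          exact absurd (mul_eq_one.1 hr.symm).2 hθ1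
        · exact h
        · exfalso
          rw [h] at hr
          have h1 : r = 1 := Nat.eq_one_of_dvd_coprimes hg (hf ▸ hrd) (Dvd.intro b hr.symm)
          rw [h1, one_mul] at hr
          exact hθg hr.symm
      rw [hχf] at hr
      refine ⟨fun hin => ?_, Dvd.intro_left r hr.symm⟩
      obtain ⟨c, hc⟩ := classInner_isCharacter_eq_natCast
        (isCharacter_res N (IsIrr.isCharacter χ.2)) (IsIrr.isCharacter η.2)
      have h1 := degree_eq_of_clifford χ.2 η.2 hχ
      rw [hc, hin, charDegree_spec' χ, charDegree_spec' η, hη, hχf, ← hf, ← Nat.cast_mul,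
        ← Nat.cast_mul, Nat.cast_inj] at h1
      have h2 : f * 1 = f * (c * b) := by rw [mul_one]; linarith [h1]
      exact hθ1 (mul_eq_one.1 (Nat.eq_of_mul_eq_mul_left (by omega) h2).symm).2
    obtain ⟨hS, hbf⟩ := hover θ rfl
    have hθl : IsIrrCharacter N ((θ : N → ℂ) * RelDeg.lf N l) := RelDeg.isIrr_mul_lf θ.2 l
    obtain ⟨hT, -⟩ := hover ⟨_, hθl⟩ (charDegree_of_one (by
      show (θ : N → ℂ) 1 * ((l 1 : ℂˣ) : ℂ) = _
      rw [map_one, Units.val_one, mul_one, charDegree_spec' θ]))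
    obtain ⟨h, hhT, hhN⟩ := SetLike.exists_of_lt (lt_of_le_of_ne
      (le_inertia (isClassFunction_of_isIrr hθl)) hT.symm)
    obtain ⟨s, hsS, hsN⟩ := SetLike.exists_of_lt (lt_of_le_of_ne
      (le_inertia (isClassFunction_of_isIrr θ.2)) hS.symm)
    rw [mem_inertia] at hhT hsS
    set μ : N →* ℂˣ := l * (RelDeg.cj h l)⁻¹ with hμ
    have hμK : ∀ x : N, (x : G) ∈ K → μ x = 1 := fun x hx => by
      rw [hμ, MonoidHom.mul_apply, MonoidHom.inv_apply, hlK x hx, hcjK h l hlK x hx, inv_one,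
        one_mul]
    have hθh : conjFun h (θ : N → ℂ) = (θ : N → ℂ) * RelDeg.lf N μ := by
      apply RelDeg.mul_lf_cancel (l := RelDeg.cj h l)
      rw [mul_assoc, ← RelDeg.lf_mul, hμ, inv_mul_cancel_right, ← RelDeg.conjFun_lf,
        ← RelDeg.conjFun_mul]
      exact hhT
    have hcomm : conjFun s (conjFun h (θ : N → ℂ)) = conjFun h (θ : N → ℂ) := by
      have hn' : h * s * h⁻¹ * s⁻¹ ∈ N := hNc (Subgroup.commutator_mem_commutator trivial trivial)
      rw [conjFun_conjFun, show h * s = h * s * h⁻¹ * s⁻¹ * (s * h) by group, ← conjFun_conjFun,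
        conjFun_of_mem hn' (isClassFunction_of_isIrr θ.2), ← conjFun_conjFun, hsS]
    rw [hθh, RelDeg.conjFun_mul, hsS, RelDeg.conjFun_lf] at hcomm
    set ν : N →* ℂˣ := RelDeg.cj s μ * μ⁻¹ with hν
    have hνb : ν ^ b = 1 := by
      refine RelDeg.twist_fix θ.2 (charDegree_spec' θ) ?_
      rw [hν, RelDeg.lf_mul, ← mul_assoc, hcomm, mul_assoc, ← RelDeg.lf_mul, mul_inv_cancel,
        RelDeg.lf_one, mul_one]
    have hνq : ν ^ q = 1 := hpowN ν fun x hx => by
      rw [hν, MonoidHom.mul_apply, MonoidHom.inv_apply, hμK x hx, hcjK s μ hμK x hx, inv_one,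
        one_mul]
    have hcopq : q.Coprime b := (hq.coprime_iff_not_dvd.2 (hidx ▸ hqf)).coprime_dvd_right hbf
    have hν1 := pow_gcd_eq_one.2 ⟨hνq, hνb⟩
    rw [hcopq.gcd_eq_one, pow_one, hν, mul_inv_eq_one] at hν1
    have hμ1 := hfix μ hμK s hsN hν1
    rw [hμ, mul_inv_eq_one] at hμ1
    exact hl1 (hfix l hlK h hhN hμ1.symm)
  have h2 := derivedSeries_two_eq_bot g hdN
  exact derivedSeries_eq_bot_of_le (i := 1) (j := 2) (derivedSeries_one G ▸ hNc) h2

end Cfsg.Agent.CharThreeDegrees
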