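import Cfsg.Agent.CharThreeDegrees.Series
import Cfsg.Agent.S4456
import Mathlib

/-!
# All nonlinear degrees share a prime
-/

set_option autoImplicit false

namespace Cfsg.Agent.CharThreeDegrees

open scoped ComplexConjugate commutatorElement
open Cfsg.Agent.Char

universe u

variable {G : Type u} [Group G] [Fintype G]

/-- Some prime divides all nonlinear degrees. -/
theorem case_one {m n p : ℕ} (hd : Deg G m n) (hp : p.Prime)
    (hdiv : ∀ χ : IrrCharacter G, Cfsg.charDegree (χ : G → ℂ) ≠ 1 →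
      p ∣ Cfsg.charDegree (χ : G → ℂ))
    (IH : ∀ L : Subgroup G, L ≠ ⊤ → ∀ a b : ℕ, Deg L a b → derivedSeries L 3 = ⊥) :
    derivedSeries G 3 = ⊥ := by
  classical
  obtain ⟨L, hLn, hLcop, j, hLi⟩ := S4456.result p hp hdiv
  have := Fintype.ofFinite L
  by_cases hLtop : L = ⊤
  · have h1 : derivedSeries G 1 = ⊥ := derivedSeries_one_of_degree_one fun χ => by
      by_contra h
      have h2 := (hdiv χ h).trans
        (CharArith.charDegree_dvd_card χ.2)
      rw [hLtop, Subgroup.card_top] at hLcop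
      exact (hp.coprime_iff_not_dvd.1 hLcop.symm) h2
    exact eq_bot_iff.2 (h1 ▸ derivedSeries_antitone G (by omega))
  -- degrees of `L`
  have hdL : ∀ θ : IrrCharacter L, ∀ χ : IrrCharacter G,
      classInner (fun l : L => (χ : G → ℂ) l) (θ : L → ℂ) ≠ 0 →
      Cfsg.charDegree (θ : L → ℂ) = ordCompl[p] (Cfsg.charDegree (χ : G → ℂ)) ∧
      ∃ i, Cfsg.charDegree (χ : G → ℂ) = p ^ i * Cfsg.charDegree (θ : L → ℂ) := by
    intro θ χ hθ
    obtain ⟨k, hk, hkd⟩ := ProjExt.exists_ratio_dvd_index χ.2 θ.2 hθ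
    rw [charDegree_spec' χ, charDegree_spec' θ, ← Nat.cast_mul, Nat.cast_inj] at hk
    rw [hLi] at hkd
    obtain ⟨i, -, rfl⟩ := (Nat.dvd_prime_pow hp).1 hkd
    refine ⟨?_, i, hk⟩
    have hnd : ¬ p ∣ Cfsg.charDegree (θ : L → ℂ) := fun h =>
      hp.coprime_iff_not_dvd.1 hLcop.symm (h.trans (CharArith.charDegree_dvd_card θ.2))
    rw [hk, Nat.ordCompl_mul, Nat.ordCompl_self_pow hp, one_mul,
      (Nat.ordCompl_eq_self_iff_zero_or_not_dvd _ hp).2 (Or.inr hnd)]
  -- the quotient by the derived subgroup of `L`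
  set D := (derivedSeries L 1).map L.subtype with hD
  have hDn : D.Normal := by
    rw [hD, derivedSeries_succ, Subgroup.map_commutator, derivedSeries_zero,
      ← MonoidHom.range_eq_map, Subgroup.range_subtype]
    infer_instance
  have := Fintype.ofFinite (G ⧸ D)
  have hq : ∀ φ : IrrCharacter (G ⧸ D), ∃ i, Cfsg.charDegree (φ : G ⧸ D → ℂ) = p ^ i := by
    intro φ
    let χ : IrrCharacter G := ⟨fun g => (φ : G ⧸ D → ℂ) g, isIrrCharacter_mk D φ.2⟩
    obtain ⟨θ, hθ⟩ := exists_constituent_res (N := L) χ.2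
    obtain ⟨-, i, hi⟩ := hdL θ χ hθ
    refine ⟨i, ?_⟩
    have hker : ∀ z ∈ commutator L, (θ : L → ℂ) z = (θ : L → ℂ) 1 := by
      intro z hz
      refine IsChar.constituent_kernel (isCharacter_res L (IsIrr.isCharacter χ.2)) θ.2 hθ ?_
      show (φ : G ⧸ D → ℂ) ((z : G) : G ⧸ D) = (φ : G ⧸ D → ℂ) (((1 : L) : G) : G ⧸ D)
      rw [(QuotientGroup.eq_one_iff (z : G)).2 (⟨z, by rwa [derivedSeries_one], rfl⟩ : (z : G) ∈ D)]
      rfl
    have h1 : Cfsg.charDegree (θ : L → ℂ) = 1 := by
      obtain ⟨η, hη, he⟩ := IsIrr.exists_quotient (commutator L) θ.2 hker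
      refine charDegree_of_one (by
        rw [he, QuotientGroup.mk_one, Nat.cast_one]
        refine IsIrr.degree_one_of_comm hη fun a b => ?_
        obtain ⟨a, rfl⟩ := QuotientGroup.mk_surjective a
        obtain ⟨b, rfl⟩ := QuotientGroup.mk_surjective b
        exact mul_comm (Abelianization.of a) (Abelianization.of b))
    rw [h1, mul_one] at hi
    exact hi
  have hLD : Deg L (ordCompl[p] m) (ordCompl[p] n) := fun θ => by
    obtain ⟨χ, hχ⟩ := exists_over L θ
    rw [(hdL θ χ hχ).1]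
    rcases hd χ with h | h | h <;> rw [h] <;> simp
  have hL3 := IH L hLtop _ _ hLD
  -- not both nonlinear degrees are powers of `p`
  by_cases hmon : (∃ i, m = p ^ i) ∧ ∃ i, n = p ^ i
  · obtain ⟨⟨i₁, hi₁⟩, i₂, hi₂⟩ := hmon
    have hab : ∀ a b : L, a * b = b * a := forall_degree_one_iff.1 fun θ => by
      obtain ⟨χ, hχ⟩ := exists_over L θ
      have h1 := (hdL θ χ hχ).1
      rw [charDegree_spec' θ, h1]
      rcases hd χ with h | h | h
      · simp [h]
      · rw [h, hi₁, Nat.ordCompl_self_pow hp, Nat.cast_one]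
      · rw [h, hi₂, Nat.ordCompl_self_pow hp, Nat.cast_one]
    have hnil : Group.IsNilpotent (G ⧸ L) := by
      have := Fact.mk hp
      exact (IsPGroup.of_card (p := p) (n := j) (by rw [← hLi, Subgroup.index_eq_card])).isNilpotent
    exact derivedSeries_three_of_monomial hd fun χ =>
      isMonomial_of_abelian_by_nilpotent _ G rfl L
        (fun a ha b hb => congrArg Subtype.val (hab ⟨a, ha⟩ ⟨b, hb⟩)) hnil _ χ.2
  obtain ⟨a, b, hab, hb⟩ : ∃ a b, Deg G a b ∧ ∀ i, b ≠ p ^ i := by
    by_cases hn : ∃ i, n = p ^ i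
    · exact ⟨n, m, hd.swap, fun i h => hmon ⟨⟨i, h⟩, hn⟩⟩
    · exact ⟨m, n, hd, fun i h => hn ⟨i, h⟩⟩
  by_cases ha : ∃ i, a = p ^ i
  · -- two degrees on both sides
    have hQ : derivedSeries (G ⧸ D) 2 = ⊥ := derivedSeries_two_eq_bot a fun φ => by
      rcases hab.quotient D φ with h | h | h
      · exact Or.inl h
      · exact Or.inr h
      · obtain ⟨i, hi⟩ := hq φ
        exact absurd (h.symm.trans hi) (hb i)
    have hL2 : derivedSeries L 2 = ⊥ := derivedSeries_two_eq_bot (ordCompl[p] b) fun θ => by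
      obtain ⟨χ, hχ⟩ := exists_over L θ
      rw [(hdL θ χ hχ).1]
      obtain ⟨i, hi⟩ := ha
      rcases hab χ with h | h | h <;> rw [h]
      · simp
      · rw [hi, Nat.ordCompl_self_pow hp]; exact Or.inl rfl
      · simp
    have h1 := derivedSeries_le_of_quotient D hQ
    rw [derivedSeries_succ, eq_bot_iff]
    refine (Subgroup.commutator_mono h1 h1).trans ?_
    rw [hD, ← Subgroup.map_commutator, ← derivedSeries_succ, hL2, Subgroup.map_bot]
  · have hQ : derivedSeries (G ⧸ D) 1 = ⊥ := derivedSeries_one_of_degree_one fun φ => by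
      rcases hab.quotient D φ with h | h | h
      · exact h
      · obtain ⟨i, hi⟩ := hq φ
        exact absurd ⟨i, h.symm.trans hi⟩ ha
      · obtain ⟨i, hi⟩ := hq φ
        exact absurd (h.symm.trans hi) (hb i)
    have h1 := derivedSeries_le_of_quotient D hQ
    have h2 : ∀ k, derivedSeries G (1 + k) ≤ (derivedSeries L (1 + k)).map L.subtype := by
      intro k
      induction k with
      | zero => exact h1
      | succ k ih =>
        rw [← add_assoc, derivedSeries_succ, derivedSeries_succ, Subgroup.map_commutator]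
        exact Subgroup.commutator_mono ih ih
    have h3 := h2 2
    rwa [show 1 + 2 = 3 from rfl, hL3, Subgroup.map_bot, le_bot_iff] at h3

end Cfsg.Agent.CharThreeDegrees
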