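import Cfsg.Agent.CharThreeDegrees.Products
import Mathlib

/-!
# Solvability with three coprime degrees
-/

set_option autoImplicit false

namespace Cfsg.Agent.CharThreeDegrees

open scoped ComplexConjugate commutatorElement
open Cfsg.Agent.Char

universe u

variable {G : Type u} [Group G] [Fintype G] {M : Subgroup G} [M.Normal] [Fintype M]

/-- The kernel of a character nontrivial on a minimal normal subgroup meets it trivially. -/
theorem Off.apply_ne (hmin : ∀ K : Subgroup G, K.Normal → K ≤ M → K = ⊥ ∨ K = M)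
    {χ : IrrCharacter G} (h : Off M χ) {x : G} (hx : x ∈ M) (hx1 : x ≠ 1) :
    (χ : G → ℂ) x ≠ (χ : G → ℂ) 1 := by
  intro he
  obtain ⟨y, hy, hne⟩ := h
  have hk : x ∈ kerSubgroup (IsIrr.isCharacter χ.2) ⊓ M := ⟨he, hx⟩
  rcases hmin (kerSubgroup (IsIrr.isCharacter χ.2) ⊓ M) inferInstance inf_le_right with h1 | h1
  · exact hx1 (Subgroup.mem_bot.1 (h1 ▸ hk))
  · exact hne (show y ∈ kerSubgroup (IsIrr.isCharacter χ.2) from
      (inf_eq_right.1 h1) hy)

/-- A family nontrivial on `M` whose sum is constant off the identity of `M` covers every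
nontrivial character of `M`. -/
theorem dvd_of_constant_sum {d : ℕ} (F : Finset (IrrCharacter G)) (hne : F.Nonempty)
    (hoff : ∀ χ ∈ F, Off M χ) (hdeg : ∀ χ ∈ F, Cfsg.charDegree (χ : G → ℂ) = d) {k : ℂ}
    (hconst : ∀ x : M, x ≠ 1 → ∑ χ ∈ F, (χ : G → ℂ) x = k) (θ : IrrCharacter M)
    (hθ : (θ : M → ℂ) ≠ 1) : Cfsg.charDegree (θ : M → ℂ) ∣ d := by
  classical
  set Φ : M → ℂ := ∑ χ ∈ F, fun x : M => (χ : G → ℂ) x with hΦ
  have key : ∀ η : IrrCharacter M, (η : M → ℂ) ≠ 1 →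
      classInner Φ (η : M → ℂ) = (Nat.card M : ℂ)⁻¹ * ((Φ 1 - k) * conj ((η : M → ℂ) 1)) := by
    intro η hη
    have h0 : classInner (fun _ : M => (1 : ℂ)) (η : M → ℂ) = 0 :=
      classInner_irr_ne isIrrCharacter_one η.2 (Ne.symm hη)
    have heq : Φ = k • (fun _ : M => (1 : ℂ)) + fun x => if x = 1 then Φ 1 - k else 0 := by
      funext x
      simp only [Pi.add_apply, Pi.smul_apply, smul_eq_mul, mul_one]
      split_ifs with hx
      · subst hx; ring
      · rw [add_zero, hΦ, Finset.sum_apply, hconst x hx]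
    conv_lhs => rw [heq]
    rw [classInner_add_left, classInner_smul_left, h0, mul_zero, zero_add]
    simp [classInner]
  have hcast : ∀ η : IrrCharacter M, classInner Φ (η : M → ℂ) =
      ∑ χ ∈ F, classInner (fun x : M => (χ : G → ℂ) x) (η : M → ℂ) := fun η =>
    classInner_sum_left _ _ _
  choose a ha using fun (χ : IrrCharacter G) (η : IrrCharacter M) =>
    classInner_isCharacter_eq_natCast (isCharacter_res M (IsIrr.isCharacter χ.2))
      (IsIrr.isCharacter η.2)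
  obtain ⟨χ₀, hχ₀⟩ := hne
  obtain ⟨θ₀, hθ₀⟩ := exists_constituent_res (N := M) χ₀.2
  have hk : Φ 1 - k ≠ 0 := by
    intro h0
    have h1 := key θ₀ (constituent_ne_one (hoff χ₀ hχ₀) hθ₀)
    rw [hcast, h0, zero_mul, mul_zero, Finset.sum_congr rfl fun χ _ => ha χ θ₀, ← Nat.cast_sum,
      Nat.cast_eq_zero] at h1
    exact hθ₀ (by rw [ha, Finset.sum_eq_zero_iff.1 h1 χ₀ hχ₀, Nat.cast_zero])
  obtain ⟨χ, hχ, hχθ⟩ : ∃ χ ∈ F, classInner (fun x : M => (χ : G → ℂ) x) (θ : M → ℂ) ≠ 0 := by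
    by_contra! hall
    have h1 := key θ hθ
    rw [hcast, Finset.sum_eq_zero hall] at h1
    rcases mul_eq_zero.1 h1.symm with h2 | h2
    · exact inv_ne_zero card_ne_zero h2
    rcases mul_eq_zero.1 h2 with h3 | h3
    · exact hk h3
    · exact IsIrr.one_ne_zero θ.2 ((map_eq_zero _).1 h3)
  obtain ⟨j, hj, -⟩ := ProjExt.exists_ratio_dvd_index χ.2 θ.2 hχθ
  rw [charDegree_spec' χ, charDegree_spec' θ, ← Nat.cast_mul, Nat.cast_inj, hdeg χ hχ] at hj
  exact ⟨j, by rw [hj, mul_comm]⟩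

variable {m n : ℕ}

/-- The degrees of the characters nontrivial on a perfect minimal normal subgroup coincide. -/
theorem not_both (hd : Deg G m n) (hn : 1 < n) (hnm : n < m) (hcop : m.Coprime n)
    (hperf : commutator M = ⊤) (hmin : ∀ K : Subgroup G, K.Normal → K ≤ M → K = ⊥ ∨ K = M)
    {χ₀ ψ₀ : IrrCharacter G} (hχ₀ : Cfsg.charDegree (χ₀ : G → ℂ) = m) (hχ₀' : Off M χ₀)
    (hψ₀ : Cfsg.charDegree (ψ₀ : G → ℂ) = n) (hψ₀' : Off M ψ₀) : False := by
  classical
  have hm : 1 < m := hn.trans hnm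
  set X := Finset.univ.filter fun χ : IrrCharacter G =>
    Cfsg.charDegree (χ : G → ℂ) = m ∧ Off M χ with hX
  set Y := Finset.univ.filter fun χ : IrrCharacter G =>
    Cfsg.charDegree (χ : G → ℂ) = n ∧ Off M χ with hY
  have hmemX : ∀ χ, χ ∈ X ↔ Cfsg.charDegree (χ : G → ℂ) = m ∧ Off M χ := fun χ => by simp [hX]
  have hmemY : ∀ χ, χ ∈ Y ↔ Cfsg.charDegree (χ : G → ℂ) = n ∧ Off M χ := fun χ => by simp [hY]
  have hflat : ∀ χ : IrrCharacter G, ¬ Off M χ → ∀ x : M,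
      (χ : G → ℂ) x = Cfsg.charDegree (χ : G → ℂ) := by
    intro χ h x
    simp only [Off, not_exists, not_and, not_not] at h
    rw [h x x.2, charDegree_spec' χ]
  -- mixed products of nontrivial characters have constituents of degree `m` only
  have hmix : ∀ ψ : IrrCharacter G, Cfsg.charDegree (ψ : G → ℂ) = n → Off M ψ →
      ∀ χ ∈ X, ∀ φ : IrrCharacter G,
      classInner ((χ : G → ℂ) * (ψ : G → ℂ)) (φ : G → ℂ) ≠ 0 →
      Cfsg.charDegree (φ : G → ℂ) = m := by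
    intro ψ hψ hψ' χ hχ
    obtain ⟨hχm, hχ'⟩ := (hmemX χ).1 hχ
    refine (prod_one_degree hd hm hn hcop hχm hψ).resolve_right fun hall => ?_
    obtain ⟨c, hc, he, hdg⟩ := exists_prod_mult χ ψ
    have hvan : ∀ x : M, x ≠ 1 → (ψ : G → ℂ) x = 0 := by
      intro x hx
      have h1 := congrFun he (x : G)
      rw [Pi.mul_apply, Finset.sum_apply, Finset.sum_congr rfl (fun φ _ =>
        show ((c φ : ℂ) • (φ : G → ℂ)) (x : G) = (c φ : ℂ) * (ψ : G → ℂ) x by
          rcases eq_or_ne (c φ) 0 with h0 | h0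
          · simp [h0]
          have h0' : classInner ((χ : G → ℂ) * (ψ : G → ℂ)) (φ : G → ℂ) ≠ 0 := by
            rw [hc]; exact_mod_cast h0
          rw [Pi.smul_apply, smul_eq_mul,
            eq_on_of_constituent hd hn hnm hcop hperf hχm hψ (hall φ h0') h0' x]),
        ← Finset.sum_mul, ← Nat.cast_sum] at h1
      have h2 : ∑ φ : IrrCharacter G, c φ = m := by
        refine Nat.eq_of_mul_eq_mul_right (by omega : 0 < n) ?_
        rw [Finset.sum_mul, ← hχm, ← hψ, hdg]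
        refine Finset.sum_congr rfl fun φ _ => ?_
        rcases eq_or_ne (c φ) 0 with h0 | h0
        · simp [h0]
        · rw [hψ, hall φ (by rw [hc]; exact_mod_cast h0)]
      rw [h2] at h1
      by_contra hne
      refine hχ'.apply_ne hmin x.2 (fun e => hx (Subtype.ext e)) ?_
      rw [charDegree_spec' χ, hχm]
      exact mul_right_cancel₀ hne h1
    -- then the trivial character lies below `ψ`
    obtain ⟨θ, hθ⟩ := exists_constituent_res (N := M) ψ.2
    have hsum : classInner (fun x : M => (ψ : G → ℂ) x) (fun _ : M => (1 : ℂ)) ≠ 0 := by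
      have h1 : ∑ x : M, (ψ : G → ℂ) x * conj (1 : ℂ) = (ψ : G → ℂ) ((1 : M) : G) := by
        rw [Finset.sum_eq_single (1 : M) (fun x _ hx => by rw [hvan x hx, zero_mul])
          (by simp), map_one, mul_one]
      simp only [classInner, h1, OneMemClass.coe_one]
      exact mul_ne_zero (inv_ne_zero card_ne_zero) (IsIrr.one_ne_zero ψ.2)
    exact constituent_ne_one hψ' (θ := ⟨_, isIrrCharacter_one⟩) hsum rfl
  -- the sum over `X` on `M`
  choose c hc he hdg using fun χ => exists_prod_mult χ ψ₀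
  set ψM : M → ℂ := fun x => (ψ₀ : G → ℂ) x with hψM
  set S := Submodule.span ℂ ({1, ψM} : Set (M → ℂ)) with hS
  have h1S : (1 : M → ℂ) ∈ S := Submodule.subset_span (Set.mem_insert _ _)
  have hψS : ψM ∈ S := Submodule.subset_span (Set.mem_insert_of_mem _ rfl)
  let res : IrrCharacter G → M → ℂ := fun φ x => (φ : G → ℂ) x
  have hresflat : ∀ φ : IrrCharacter G, ¬ Off M φ → res φ ∈ S := fun φ h => by
    rw [show res φ = (Cfsg.charDegree (φ : G → ℂ) : ℂ) • (1 : M → ℂ) from funext fun x => by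
      simp [res, hflat φ h x]]
    exact S.smul_mem _ h1S
  have hterm : ∀ χ : IrrCharacter G, Cfsg.charDegree (χ : G → ℂ) = m → ∀ φ : IrrCharacter G,
      φ ∉ X → (c χ φ : ℂ) • res φ ∈ S := by
    intro χ hχ φ hφ
    rcases eq_or_ne (c χ φ) 0 with h0 | h0
    · simp [h0]
    refine S.smul_mem _ ?_
    have h0' : classInner ((χ : G → ℂ) * (ψ₀ : G → ℂ)) (φ : G → ℂ) ≠ 0 := by
      rw [hc]; exact_mod_cast h0
    by_cases hoff : Off M φ
    swap
    · exact hresflat φ hoff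
    rcases prod_one_degree hd hm hn hcop hχ hψ₀ with hall | hall
    · exact absurd ((hmemX φ).2 ⟨hall φ h0', hoff⟩) hφ
    · rw [show res φ = ψM from funext fun x =>
        eq_on_of_constituent hd hn hnm hcop hperf hχ hψ₀ (hall φ h0') h0' x]
      exact hψS
  -- the column sums
  have hcol : ∀ φ ∈ X, (∑ χ : IrrCharacter G, c χ φ) = n ∧
      ∀ χ : IrrCharacter G, c χ φ ≠ 0 → Cfsg.charDegree (χ : G → ℂ) = m := by
    intro φ hφ
    obtain ⟨c', hc', -, hdg'⟩ := exists_prod_mult φ (conjIrr ψ₀)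
    have hcc : ∀ χ, c' χ = c χ φ := fun χ => by
      have h1 : classInner ((χ : G → ℂ) * (ψ₀ : G → ℂ)) (φ : G → ℂ) =
          conj (classInner ((φ : G → ℂ) * (conjIrr ψ₀ : G → ℂ)) (χ : G → ℂ)) := by
        rw [classInner_mul_shift, ← classInner_conj_symm]
        exact congrArg (fun f => conj (classInner f (χ : G → ℂ)))
          (funext fun g => mul_comm _ _)
      rw [hc, hc', Complex.conj_natCast, Nat.cast_inj] at h1
      exact h1.symm
    have hdegm : ∀ χ : IrrCharacter G, c χ φ ≠ 0 → Cfsg.charDegree (χ : G → ℂ) = m := fun χ h =>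
      hmix (conjIrr ψ₀) ((deg_conjIrr ψ₀).trans hψ₀) (by
        obtain ⟨x, hx, hne⟩ := hψ₀'
        exact ⟨x, hx, fun h => hne ((starRingEnd ℂ).injective (by simpa using h))⟩) φ hφ χ
        (by rw [hc', hcc]; exact_mod_cast h)
    refine ⟨Nat.eq_of_mul_eq_mul_right (by omega : 0 < m) ?_, hdegm⟩
    rw [Finset.sum_mul, mul_comm n m]
    conv_rhs => rw [← ((hmemX φ).1 hφ).1, ← ((deg_conjIrr ψ₀).trans hψ₀), hdg']
    refine Finset.sum_congr rfl fun χ _ => ?_
    rw [hcc]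
    rcases eq_or_ne (c χ φ) 0 with h0 | h0
    · simp [h0]
    · rw [hdegm χ h0]
  have hexp : ∀ χ : IrrCharacter G, res χ * ψM = ∑ φ : IrrCharacter G, (c χ φ : ℂ) • res φ := by
    intro χ
    funext x
    have := congrFun (he χ) (x : G)
    simpa [res, hψM, Finset.sum_apply] using this
  set Φ : M → ℂ := ∑ χ ∈ X, res χ with hΦ
  have hmem : Φ * ψM - (n : ℂ) • Φ ∈ S := by
    have e1 : Φ * ψM = ∑ χ ∈ X, ∑ φ ∈ X, (c χ φ : ℂ) • res φ +
        ∑ χ ∈ X, ∑ φ ∈ Xᶜ, (c χ φ : ℂ) • res φ := by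
      rw [hΦ, Finset.sum_mul, ← Finset.sum_add_distrib]
      exact Finset.sum_congr rfl fun χ _ => by rw [hexp, Finset.sum_add_sum_compl]
    have e2 : (n : ℂ) • Φ = ∑ χ ∈ X, ∑ φ ∈ X, (c χ φ : ℂ) • res φ +
        ∑ χ ∈ Xᶜ, ∑ φ ∈ X, (c χ φ : ℂ) • res φ := by
      rw [Finset.sum_comm, Finset.sum_comm (s := Xᶜ), ← Finset.sum_add_distrib, hΦ,
        Finset.smul_sum]
      refine Finset.sum_congr rfl fun φ hφ => ?_
      rw [← Finset.sum_smul, ← Finset.sum_smul, ← add_smul, ← Nat.cast_sum, ← Nat.cast_sum,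
        ← Nat.cast_add, Finset.sum_add_sum_compl, (hcol φ hφ).1]
    rw [e1, e2, add_sub_add_left_eq_sub]
    refine S.sub_mem (S.sum_mem fun χ hχ => S.sum_mem fun φ hφ =>
      hterm χ ((hmemX χ).1 hχ).1 φ (Finset.mem_compl.1 hφ)) (S.sum_mem fun χ hχ => ?_)
    by_cases hz : ∀ φ ∈ X, c χ φ = 0
    · rw [Finset.sum_eq_zero fun φ hφ => by simp [hz φ hφ]]
      exact S.zero_mem
    push Not at hz
    obtain ⟨φ₀, hφ₀, hne⟩ := hz
    have hχm := (hcol φ₀ hφ₀).2 χ hne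
    have hχflat : ¬ Off M χ := fun h => Finset.mem_compl.1 hχ ((hmemX χ).2 ⟨hχm, h⟩)
    have h1 : ∑ φ ∈ X, (c χ φ : ℂ) • res φ =
        res χ * ψM - ∑ φ ∈ Xᶜ, (c χ φ : ℂ) • res φ := by
      rw [hexp χ, ← Finset.sum_add_sum_compl X, add_sub_cancel_right]
    rw [h1]
    refine S.sub_mem ?_ (S.sum_mem fun φ hφ => hterm χ hχm φ (Finset.mem_compl.1 hφ))
    rw [show res χ * ψM = (m : ℂ) • ψM from funext fun x => by
      simp [res, hflat χ hχflat x, hχm]]
    exact S.smul_mem _ hψS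
  obtain ⟨k₁, k₂, hk⟩ := Submodule.mem_span_pair.1 hmem
  have hψ1 : ψM 1 = (n : ℂ) := by
    simp [hψM, charDegree_spec', hψ₀]
  have hk1 : k₁ = -(k₂ * n) := by
    have := congrFun hk 1
    simp only [Pi.add_apply, Pi.smul_apply, smul_eq_mul, Pi.one_apply, Pi.sub_apply, Pi.mul_apply,
      hψ1, mul_one] at this
    linear_combination this
  have hΦx : ∀ x : M, x ≠ 1 → ∑ χ ∈ X, (χ : G → ℂ) x = k₂ := by
    intro x hx
    have h1 := congrFun hk x
    simp only [Pi.add_apply, Pi.smul_apply, smul_eq_mul, Pi.one_apply, Pi.sub_apply, Pi.mul_apply,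
      mul_one, hk1] at h1
    have hne : ψM x - (n : ℂ) ≠ 0 := by
      rw [sub_ne_zero, ← hψ₀]
      show (ψ₀ : G → ℂ) x ≠ _
      rw [← charDegree_spec' ψ₀]
      exact hψ₀'.apply_ne hmin x.2 fun e => hx (Subtype.ext e)
    have h2 : Φ x * (ψM x - n) = k₂ * (ψM x - n) := by linear_combination -h1
    have h3 := mul_right_cancel₀ hne h2
    rw [← h3, hΦ, Finset.sum_apply]
  -- the sum over `Y`
  have hrest : ∀ χ ∈ (X ∪ Y)ᶜ, ¬ Off M χ := by
    intro χ hχ hoff
    simp only [Finset.mem_compl, Finset.mem_union, hmemX, hmemY, not_or] at hχ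
    rcases hd χ with h | h | h
    · obtain ⟨y, hy, hne⟩ := hoff
      exact hne (by rw [linear_eq_one hperf h ⟨y, hy⟩, one_apply_eq_of_deg χ h, Nat.cast_one])
    · exact hχ.1 ⟨h, hoff⟩
    · exact hχ.2 ⟨h, hoff⟩
  have hΦY : ∀ x : M, x ≠ 1 → ∑ χ ∈ Y, (χ : G → ℂ) x =
      -((m : ℂ) * k₂ + ∑ χ ∈ (X ∪ Y)ᶜ, ((Cfsg.charDegree (χ : G → ℂ) : ℂ)) ^ 2) / n := by
    intro x hx
    have h0 := regular_eq_sum (G := G) (x : G)
    rw [if_neg (fun e : (x : G) = 1 => hx (Subtype.ext e)), ← Finset.sum_add_sum_compl (X ∪ Y),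
      Finset.sum_union] at h0
    swap
    · rw [Finset.disjoint_left]
      intro χ hχ hχ'
      have := ((hmemX χ).1 hχ).1.symm.trans ((hmemY χ).1 hχ').1
      omega
    rw [Finset.sum_congr (s₁ := X) rfl (fun (χ : IrrCharacter G) hχ => show (χ : G → ℂ) 1 * (χ : G → ℂ) x =
          (m : ℂ) * (χ : G → ℂ) x by rw [charDegree_spec' χ, ((hmemX χ).1 hχ).1]),
      ← Finset.mul_sum, hΦx x hx,
      Finset.sum_congr (s₁ := Y) rfl (fun (χ : IrrCharacter G) hχ => show (χ : G → ℂ) 1 * (χ : G → ℂ) x =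
          (n : ℂ) * (χ : G → ℂ) x by rw [charDegree_spec' χ, ((hmemY χ).1 hχ).1]),
      ← Finset.mul_sum,
      Finset.sum_congr (s₁ := (X ∪ Y)ᶜ) rfl (fun (χ : IrrCharacter G) hχ => show (χ : G → ℂ) 1 * (χ : G → ℂ) x =
          ((Cfsg.charDegree (χ : G → ℂ) : ℂ)) ^ 2 by
        rw [charDegree_spec' χ, hflat χ (hrest χ hχ), sq])] at h0
    rw [eq_div_iff (by exact_mod_cast (by omega : n ≠ 0))]
    linear_combination h0
  -- every nontrivial character of `M` would be linear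
  obtain ⟨θ, hθ⟩ := exists_constituent_res (N := M) χ₀.2
  have hθ1 := constituent_ne_one hχ₀' hθ
  have d1 := dvd_of_constant_sum X ⟨χ₀, (hmemX χ₀).2 ⟨hχ₀, hχ₀'⟩⟩
    (fun χ h => ((hmemX χ).1 h).2) (fun χ h => ((hmemX χ).1 h).1) hΦx θ hθ1
  have d2 := dvd_of_constant_sum Y ⟨ψ₀, (hmemY ψ₀).2 ⟨hψ₀, hψ₀'⟩⟩
    (fun χ h => ((hmemY χ).1 h).2) (fun χ h => ((hmemY χ).1 h).1) hΦY θ hθ1
  have h1 : Cfsg.charDegree (θ : M → ℂ) = 1 := Nat.eq_one_of_dvd_coprimes hcop d1 d2
  obtain ⟨f, hf⟩ := IsChar.exists_hom (IsIrr.isCharacter θ.2)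
    (by rw [one_apply_eq_of_deg θ h1, Nat.cast_one])
  exact hθ1 (funext fun x => by rw [hf]; simp [hom_eq_one_of_perfect hperf f x])

/-- With three coprime degrees there is no perfect minimal normal subgroup. -/
theorem false_of_perfect_minimal (hd : Deg G m n) (hm : 1 < m) (hn : 1 < n)
    (hcop : m.Coprime n) (hne : M ≠ ⊥) (hperf : commutator M = ⊤)
    (hmin : ∀ K : Subgroup G, K.Normal → K ≤ M → K = ⊥ ∨ K = M) : False := by
  classical
  wlog hnm : n < m generalizing m n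
  · refine this hd.swap hn hm hcop.symm ?_
    rcases lt_or_eq_of_le (Nat.le_of_not_lt hnm) with h | h
    · exact h
    · rw [h, Nat.coprime_self] at hcop
      omega
  -- a prime dividing a nontrivial degree of `M`
  have hnontriv : ∀ χ : IrrCharacter G, Off M χ →
      ∃ p : ℕ, p.Prime ∧ p ∣ Nat.card M ∧ p ∣ Cfsg.charDegree (χ : G → ℂ) := by
    intro χ hχ
    obtain ⟨θ, hθ⟩ := exists_constituent_res (N := M) χ.2
    have h1 : Cfsg.charDegree (θ : M → ℂ) ≠ 1 := fun h => constituent_ne_one hχ hθ (by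
      obtain ⟨f, hf⟩ := IsChar.exists_hom (IsIrr.isCharacter θ.2)
        (by rw [one_apply_eq_of_deg θ h, Nat.cast_one])
      funext x
      rw [hf]; simp [hom_eq_one_of_perfect hperf f x])
    obtain ⟨p, hp, hpd⟩ := Nat.exists_prime_and_dvd h1
    obtain ⟨j, hj, -⟩ := ProjExt.exists_ratio_dvd_index χ.2 θ.2 hθ
    rw [charDegree_spec' χ, charDegree_spec' θ, ← Nat.cast_mul, Nat.cast_inj] at hj
    exact ⟨p, hp, hpd.trans (CharArith.charDegree_dvd_card θ.2), hj ▸ hpd.mul_left j⟩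
  obtain ⟨χ, hχ⟩ : ∃ χ : IrrCharacter G, Off M χ := by
    by_contra! hall
    obtain ⟨x, hx, hx1⟩ : ∃ x ∈ M, x ≠ 1 := by
      by_contra! h; exact hne (eq_bot_iff.2 fun x hx => Subgroup.mem_bot.2 (h x hx))
    obtain ⟨χ, hχ⟩ := exists_irr_ne_at_one hx1
    exact hall χ ⟨x, hx, hχ⟩
  have hlin : ∀ χ : IrrCharacter G, Off M χ → Cfsg.charDegree (χ : G → ℂ) ≠ 1 := by
    rintro χ ⟨y, hy, hne⟩ h
    exact hne (by rw [linear_eq_one hperf h ⟨y, hy⟩, one_apply_eq_of_deg χ h, Nat.cast_one])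
  obtain ⟨p, hp, hpM, hpχ⟩ := hnontriv χ hχ
  have := Fact.mk hp
  obtain ⟨ψ, hψ, hpψ⟩ := exists_off_not_dvd (G := G) hperf hpM
  rcases hd χ with h | h | h
  · exact hlin χ hχ h
  · rcases hd ψ with h' | h' | h'
    · exact hlin ψ hψ h'
    · exact hpψ (h' ▸ h ▸ hpχ)
    · exact not_both hd hn hnm hcop hperf hmin h hχ h' hψ
  · rcases hd ψ with h' | h' | h'
    · exact hlin ψ hψ h'
    · exact not_both hd hn hnm hcop hperf hmin h' hψ h hχ
    · exact hpψ (h' ▸ h ▸ hpχ)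

end Cfsg.Agent.CharThreeDegrees
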