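import Cfsg.Agent.CharThreeDegrees.CaseOne
import Cfsg.Agent.CharThreeDegrees.Solvable
import Cfsg.Agent.CharThreeDegrees.JustNonabelian
import Cfsg.Agent.Core.MinimalNormal
import Cfsg.Agent.Core.Basics
import Mathlib

/-!
# At most three degrees: derived length at most three
-/

set_option autoImplicit false

namespace Cfsg.Agent.CharThreeDegrees

open Cfsg.Agent.Char

universe u

theorem derivedSeries_three_eq_bot : ∀ (N : ℕ) (G : Type u) [Group G] [Fintype G],
    Nat.card G = N → ∀ m n : ℕ, Deg G m n → derivedSeries G 3 = ⊥ := by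
  intro N
  induction N using Nat.strong_induction_on with
  | _ N IH => ?_
  intro G _ _ hN m n hd
  classical
  subst hN
  have IHsub : ∀ L : Subgroup G, L ≠ ⊤ → ∀ a b : ℕ, Deg L a b → derivedSeries L 3 = ⊥ :=
    fun L hL a b h => by
      have := Fintype.ofFinite L
      exact IH _ (Core.card_lt_of_ne_top hL) L rfl a b h
  by_cases hone : ∃ p : ℕ, p.Prime ∧ ∀ χ : IrrCharacter G, Cfsg.charDegree (χ : G → ℂ) ≠ 1 →
      p ∣ Cfsg.charDegree (χ : G → ℂ)
  · obtain ⟨p, hp, h⟩ := hone
    exact case_one hd hp h IHsub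
  push Not at hone
  -- both degrees occur and are coprime
  have hocc : ∀ a b : ℕ, Deg G a b → ∃ χ : IrrCharacter G, Cfsg.charDegree (χ : G → ℂ) = a ∧
      a ≠ 1 := by
    intro a b hab
    by_contra! hall
    by_cases hb : b = 1
    · obtain ⟨χ, hχ1, -⟩ := hone 2 Nat.prime_two
      rcases hab χ with h | h | h
      · exact hχ1 h
      · exact hχ1 (h.trans (hall χ h))
      · exact hχ1 (h.trans hb)
    · obtain ⟨p, hp, hpb⟩ := Nat.exists_prime_and_dvd hb
      obtain ⟨χ, hχ1, hpχ⟩ := hone p hp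
      rcases hab χ with h | h | h
      · exact hχ1 h
      · exact hχ1 (h.trans (hall χ h))
      · exact hpχ (h ▸ hpb)
  obtain ⟨χm, hχm, hm1⟩ := hocc m n hd
  obtain ⟨χn, hχn, hn1⟩ := hocc n m hd.swap
  have hpos : ∀ χ : IrrCharacter G, Cfsg.charDegree (χ : G → ℂ) ≠ 0 := fun χ h =>
    IsIrr.one_ne_zero χ.2 (by rw [charDegree_spec' χ, h, Nat.cast_zero])
  have hm : 1 < m := by have := hpos χm; omega
  have hn : 1 < n := by have := hpos χn; omega
  have hcop : m.Coprime n := by
    refine Nat.coprime_of_dvd fun p hp hpm hpn => ?_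
    obtain ⟨χ, hχ1, hpχ⟩ := hone p hp
    rcases hd χ with h | h | h
    · exact hχ1 h
    · exact hpχ (h ▸ hpm)
    · exact hpχ (h ▸ hpn)
  -- solvability
  have : Nontrivial G := by
    by_contra h
    rw [not_nontrivial_iff_subsingleton] at h
    have := forall_degree_one_iff.2 (fun a b : G => Subsingleton.elim _ _) χm
    rw [charDegree_spec' χm, hχm, Nat.cast_eq_one] at this
    exact hm1 this
  obtain ⟨M, hM⟩ := Core.exists_isMinNormal (G := G)
  haveI := hM.normal
  have := Fintype.ofFinite M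
  have := Fintype.ofFinite (G ⧸ M)
  have hQ : Group.IsSolvable (G ⧸ M) := (Group.isSolvable_def _).2
    ⟨3, IH _ (Core.card_quotient_lt hM.ne_bot) (G ⧸ M) rfl m n (hd.quotient M)⟩
  have hMc : ∀ a ∈ M, ∀ b ∈ M, a * b = b * a := by
    rcases hM.eq_of_le ⁅M, M⁆ inferInstance (Subgroup.commutator_le_self M) with h | h
    · exact fun a ha b hb => commutatorElement_eq_one_iff_mul_comm.1
        (Subgroup.mem_bot.1 (h ▸ Subgroup.commutator_mem_commutator ha hb))
    · exfalso
      refine false_of_perfect_minimal hd hm hn hcop hM.ne_bot ?_ hM.eq_of_le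
      refine Subgroup.map_injective M.subtype_injective ?_
      rw [Subgroup.map_subtype_commutator, h, ← MonoidHom.range_eq_map, Subgroup.range_subtype]
  have hsol : Group.IsSolvable G := by
    obtain ⟨k, hk⟩ := (Group.isSolvable_def _).1 hQ
    have h2 : derivedSeries M 1 = ⊥ :=
      derivedSeries_one_of_comm fun a b => Subtype.ext (hMc a a.2 b b.2)
    exact (Group.isSolvable_def G).2
      ⟨k + 1, derivedSeries_eq_bot_of_le (derivedSeries_le_of_quotient M hk) h2⟩
  exact case_two hd hm hn hcop ⟨χm, hχm⟩ ⟨χn, hχn⟩ hsol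

/-- Exactly three degrees. -/
theorem of_card_three {G : Type u} [Group G] [Finite G]
    (h : Nat.card {d : ℕ // ∃ χ : IrrCharacter G, Cfsg.charDegree (χ : G → ℂ) = d} = 3) :
    derivedSeries G 3 = ⊥ := by
  classical
  have := Fintype.ofFinite G
  have hfin : Finite {d : ℕ // ∃ χ : IrrCharacter G, Cfsg.charDegree (χ : G → ℂ) = d} :=
    Nat.finite_of_card_ne_zero (by omega)
  have := Fintype.ofFinite {d : ℕ // ∃ χ : IrrCharacter G, Cfsg.charDegree (χ : G → ℂ) = d}
  have h1 : ∃ χ : IrrCharacter G, Cfsg.charDegree (χ : G → ℂ) = 1 :=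
    ⟨⟨_, isIrrCharacter_one⟩, charDegree_of_one (by simp)⟩
  set one : {d : ℕ // ∃ χ : IrrCharacter G, Cfsg.charDegree (χ : G → ℂ) = d} := ⟨1, h1⟩
  have h2 : (Finset.univ.erase one).card = 2 := by
    rw [Finset.card_erase_of_mem (Finset.mem_univ _), Finset.card_univ,
      ← Nat.card_eq_fintype_card, h]
  obtain ⟨a, b, -, hab⟩ := Finset.card_eq_two.1 h2
  refine derivedSeries_three_eq_bot _ G rfl a b fun χ => ?_
  set x : {d : ℕ // ∃ χ : IrrCharacter G, Cfsg.charDegree (χ : G → ℂ) = d} := ⟨_, χ, rfl⟩ with hx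
  by_cases hx1 : x = one
  · exact Or.inl (congrArg Subtype.val hx1)
  · have hmem : x ∈ ({a, b} : Finset _) := hab ▸ Finset.mem_erase.2 ⟨hx1, Finset.mem_univ _⟩
    rcases Finset.mem_insert.1 hmem with e | e
    · exact Or.inr (Or.inl (congrArg Subtype.val e))
    · exact Or.inr (Or.inr (congrArg Subtype.val (Finset.mem_singleton.1 e)))

end Cfsg.Agent.CharThreeDegrees
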