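import Cfsg.Agent.Char.Monomial
import Mathlib

/-!
# Groups with an abelian normal subgroup and nilpotent quotient are monomial
-/

namespace Cfsg.Agent.CharThreeDegrees

open scoped ComplexConjugate commutatorElement
open Module Cfsg.Agent.Char

universe u

theorem isMonomial_of_abelian_by_nilpotent :
    ∀ (n : ℕ) (G : Type u) [Group G] [Fintype G], Nat.card G = n →
      ∀ (L : Subgroup G) [L.Normal], (∀ a ∈ L, ∀ b ∈ L, a * b = b * a) →
      Group.IsNilpotent (G ⧸ L) → ∀ χ : G → ℂ, IsIrrCharacter G χ →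
        ∃ (H : Subgroup G) (lam : H →* ℂˣ), χ = indFun H (fun h => (lam h : ℂ)) := by
  intro n
  induction n using Nat.strong_induction_on with
  | _ n ih =>
    intro G _ _ hn L _ hLab hLnil χ hχ
    classical
    obtain ⟨m, ρ, hρ, rfl⟩ := id hχ
    obtain ⟨N, hN, hNmem⟩ := exists_normal_of_scalar ρ
    obtain ⟨hnt, hsub⟩ := isIrreducible_iff.1 hρ
    by_cases hNtop : N = ⊤
    · have h1 : ρ.character 1 = 1 := by
        obtain ⟨v, hv⟩ := exists_ne (0 : Fin m → ℂ)
        rcases hsub (ℂ ∙ v) (fun g w hw => by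
          obtain ⟨ω, hω⟩ := (hNmem g).1 (hNtop ▸ Subgroup.mem_top g)
          rw [hω]; exact Submodule.smul_mem _ ω hw) with h | h
        · exact absurd (Submodule.span_singleton_eq_bot.1 h) hv
        · rw [ρ.char_one, ← finrank_top, ← h, finrank_span_singleton hv, Nat.cast_one]
      obtain ⟨f, hf⟩ := IsChar.exists_hom (IsIrr.isCharacter hχ) h1
      refine ⟨⊤, f.comp (Subgroup.subtype ⊤), ?_⟩
      funext g
      rw [indFun_top _ (isClassFunction_of_isCharacter (isCharacter_hom _))]
      simp [hf]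
    obtain ⟨A, hAn, x, hxA, hxN, hcomm⟩ : ∃ (A : Subgroup G) (_ : A.Normal) (x : G),
        x ∈ A ∧ x ∉ N ∧ ∀ a ∈ A, ∀ b ∈ A, ρ a * ρ b = ρ b * ρ a := by
      by_cases hLN : L ≤ N
      swap
      · obtain ⟨x, hxL, hxN⟩ := Set.not_subset.1 hLN
        exact ⟨L, inferInstance, x, hxL, hxN, fun a ha b hb => by
          rw [← map_mul, ← map_mul, hLab a ha b hb]⟩
      -- an element central modulo `N`
      have : Nontrivial (G ⧸ N) := QuotientGroup.nontrivial_iff.2 hNtop
      have : Group.IsNilpotent (G ⧸ N) := Group.nilpotent_of_surjective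
        (QuotientGroup.map L N (MonoidHom.id G) hLN)
        (QuotientGroup.map_surjective_of_surjective L N (MonoidHom.id G)
          QuotientGroup.mk_surjective hLN)
      have : Nontrivial (Subgroup.center (G ⧸ N)) :=
        (Subgroup.nontrivial_iff_ne_bot _).2 (Group.IsNilpotent.center_ne_bot _)
      obtain ⟨⟨q, hq⟩, hq1⟩ := exists_ne (1 : Subgroup.center (G ⧸ N))
      obtain ⟨x, rfl⟩ := QuotientGroup.mk_surjective q
      have hxN : x ∉ N := fun h => hq1 (Subtype.ext ((QuotientGroup.eq_one_iff x).2 h))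
      set A := (Subgroup.zpowers (x : G ⧸ N)).comap (QuotientGroup.mk' N) with hA
      have hZn : (Subgroup.zpowers (x : G ⧸ N)).Normal := ⟨fun a ha g => by
        have hc : a ∈ Subgroup.center (G ⧸ N) :=
          (Subgroup.zpowers_le.2 hq : Subgroup.zpowers (x : G ⧸ N) ≤ _) ha
        rwa [(Subgroup.mem_center_iff.1 hc g), mul_inv_cancel_right]⟩
      have hAn : A.Normal := hZn.comap _
      have hform : ∀ a ∈ A, ∃ (i : ℤ) (ω : ℂ), ρ a = ω • ρ (x ^ i) := by
        rintro a ⟨i, hi⟩
        refine ⟨i, ?_⟩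
        have hmem : (x ^ i)⁻¹ * a ∈ N := QuotientGroup.eq.1 (by rw [QuotientGroup.mk_zpow]; exact hi)
        obtain ⟨ω, hω⟩ := (hNmem _).1 hmem
        refine ⟨ω, ?_⟩
        calc ρ a = ρ (x ^ i) * ρ ((x ^ i)⁻¹ * a) := by rw [← map_mul, mul_inv_cancel_left]
          _ = ω • ρ (x ^ i) := by rw [hω]; ext v; simp
      have hcomm : ∀ a ∈ A, ∀ b ∈ A, ρ a * ρ b = ρ b * ρ a := by
        intro a ha b hb
        obtain ⟨i, ω, ha'⟩ := hform a ha
        obtain ⟨j, η, hb'⟩ := hform b hb
        rw [ha', hb', smul_mul_smul_comm, smul_mul_smul_comm, mul_comm ω, ← map_mul, ← map_mul,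
          ← zpow_add, ← zpow_add, add_comm i]
      exact ⟨A, hAn, x, Subgroup.mem_zpowers (x : G ⧸ N), hxN, hcomm⟩
    have := Fintype.ofFinite A
    obtain ⟨lam, hlam⟩ := exists_constituent_res (N := A) hχ
    have hkill : ∀ z ∈ commutator A, (lam : A → ℂ) z = (lam : A → ℂ) 1 := by
      intro z hz
      refine IsChar.constituent_kernel (isCharacter_res A (IsIrr.isCharacter hχ)) lam.2 hlam ?_
      have hle : commutator A ≤ MonoidHom.ker (MonoidHom.toHomUnits (ρ.comp A.subtype)) := by
        rw [commutator_eq_closure, Subgroup.closure_le]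
        rintro _ ⟨a, b, rfl⟩
        rw [SetLike.mem_coe, MonoidHom.mem_ker, map_commutatorElement,
          commutatorElement_eq_one_iff_mul_comm]
        exact Units.ext (hcomm a a.2 b b.2)
      have h1 : ρ (z : G) = 1 := congrArg Units.val (MonoidHom.mem_ker.1 (hle hz))
      show ρ.character (z : G) = ρ.character ((1 : A) : G)
      rw [OneMemClass.coe_one]
      show LinearMap.trace ℂ _ (ρ (z : G)) = LinearMap.trace ℂ _ (ρ 1)
      rw [h1, map_one ρ]
    have hl1 : (lam : A → ℂ) 1 = 1 := by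
      obtain ⟨φ, hφ, he⟩ := IsIrr.exists_quotient (commutator A) lam.2 hkill
      rw [he, QuotientGroup.mk_one]
      refine IsIrr.degree_one_of_comm hφ fun a b => ?_
      obtain ⟨a, rfl⟩ := QuotientGroup.mk_surjective a
      obtain ⟨b, rfl⟩ := QuotientGroup.mk_surjective b
      exact mul_comm (Abelianization.of a) (Abelianization.of b)
    have hne : inertia (lam : A → ℂ) ≠ ⊤ := by
      intro htop
      have horb : orbit (lam : A → ℂ) = {(lam : A → ℂ)} := by
        ext ψ
        simp only [mem_orbit, Finset.mem_singleton]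
        exact ⟨fun ⟨g, hg⟩ => hg ▸ (mem_inertia.1 (htop ▸ Subgroup.mem_top g)),
          fun h => ⟨1, by rw [h, conjFun_one]⟩⟩
      have hcl := clifford hχ lam.2 hlam
      rw [horb, Finset.sum_singleton] at hcl
      have h1 := congrFun hcl ⟨x, hxA⟩
      have h2 := congrFun hcl 1
      simp only [Pi.smul_apply, smul_eq_mul, OneMemClass.coe_one, hl1, mul_one] at h1 h2
      refine hxN ((hNmem x).2 ((norm_character_eq_iff ρ x).1 ?_))
      obtain ⟨f, hf⟩ := IsChar.exists_hom (IsIrr.isCharacter lam.2) hl1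
      have hnorm : ‖(lam : A → ℂ) ⟨x, hxA⟩‖ = 1 := by
        rw [hf]
        refine Complex.norm_eq_one_of_pow_eq_one (n := Nat.card A) ?_ Nat.card_pos.ne'
        rw [← Units.val_pow_eq_pow_val, ← map_pow, pow_card_eq_one', map_one, Units.val_one]
      rw [h1, norm_mul, hnorm, mul_one, ← h2, ρ.char_one, Complex.norm_natCast]
    obtain ⟨ψ, hψ, hind, -⟩ := clifford_correspondence hχ lam.2 hlam
    have := Fintype.ofFinite (inertia (lam : A → ℂ))
    have hlt : Nat.card (inertia (lam : A → ℂ)) < n := hn ▸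
      lt_of_le_of_ne (Subgroup.card_le_card_group _) fun h => hne (Subgroup.eq_top_of_card_eq _ h)
    have hLTnil : Group.IsNilpotent ((inertia (lam : A → ℂ) : Subgroup G) ⧸ L.subgroupOf (inertia (lam : A → ℂ))) := by
      let φ : (inertia (lam : A → ℂ)) →* G ⧸ L := (QuotientGroup.mk' L).comp (inertia (lam : A → ℂ)).subtype
      have hker : φ.ker = L.subgroupOf (inertia (lam : A → ℂ)) := Subgroup.ext fun t => by
        simp [φ, MonoidHom.mem_ker, QuotientGroup.eq_one_iff, Subgroup.mem_subgroupOf]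
      exact Group.nilpotent_of_surjective
        (((QuotientGroup.quotientMulEquivOfEq hker).toMonoidHom).comp
          (QuotientGroup.quotientKerEquivRange φ).symm.toMonoidHom)
        (((QuotientGroup.quotientMulEquivOfEq hker).surjective).comp
          (QuotientGroup.quotientKerEquivRange φ).symm.surjective)
    obtain ⟨H, f, rfl⟩ := ih _ hlt (inertia (lam : A → ℂ)) rfl (L.subgroupOf (inertia (lam : A → ℂ)))
      (fun a ha b hb => Subtype.ext (hLab a ha b hb)) hLTnil ψ hψ
    refine ⟨H.map (inertia (lam : A → ℂ)).subtype, f.comp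
      (H.equivMapOfInjective _ (Subgroup.subtype_injective _)).symm.toMonoidHom, ?_⟩
    rw [← hind, indFun_map]
    rfl

end Cfsg.Agent.CharThreeDegrees
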