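import Cfsg.Agent.CharThreeDegrees.Series
import Cfsg.Agent.Camina.Perfect
import Cfsg.Agent.Char.RelDegree
import Cfsg.Agent.Char.Perm
import Mathlib

/-!
# Three degrees exclude a perfect minimal normal subgroup
-/

set_option autoImplicit false

namespace Cfsg.Agent.CharThreeDegrees

open scoped ComplexConjugate commutatorElement
open Cfsg.Agent.Char

universe u

variable {G : Type u} [Group G] [Fintype G] {M : Subgroup G} [M.Normal] [Fintype M]

/-- `χ` is nontrivial on `M`. -/
def Off (M : Subgroup G) (χ : IrrCharacter G) : Prop :=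
  ∃ x ∈ M, (χ : G → ℂ) x ≠ (χ : G → ℂ) 1

omit [Fintype G] [M.Normal] [Fintype M] in
theorem hom_eq_one_of_perfect (hperf : commutator M = ⊤) (f : M →* ℂˣ) (x : M) : f x = 1 :=
  hom_commutator_eq_one f (hperf ▸ Subgroup.mem_top x)

omit [M.Normal] [Fintype M] in
theorem linear_eq_one (hperf : commutator M = ⊤) {l : IrrCharacter G}
    (hl : Cfsg.charDegree (l : G → ℂ) = 1) (x : M) : (l : G → ℂ) x = 1 := by
  obtain ⟨f, hf⟩ := IsChar.exists_hom (IsIrr.isCharacter l.2)
    (by rw [one_apply_eq_of_deg l hl, Nat.cast_one])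
  rw [hf]
  simpa using congrArg Units.val (hom_eq_one_of_perfect hperf (f.comp M.subtype) x)

/-- A constituent of the restriction of a character which is nontrivial on `M` is nontrivial. -/
theorem constituent_ne_one {χ : IrrCharacter G} (hχ : Off M χ) {θ : IrrCharacter M}
    (hθ : classInner (fun x : M => (χ : G → ℂ) x) (θ : M → ℂ) ≠ 0) : (θ : M → ℂ) ≠ 1 := by
  intro h
  obtain ⟨x, hx, hne⟩ := hχ
  have h1 := clifford χ.2 θ.2 hθ
  rw [h, RelDeg.orbit_one, Finset.sum_singleton] at h1
  exact hne (by simpa using (congrFun h1 ⟨x, hx⟩).trans (congrFun h1 1).symm)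

/-- A prime dividing the order of a perfect normal subgroup misses the degree of some character
which is nontrivial on it. -/
theorem exists_off_not_dvd (hperf : commutator M = ⊤) {p : ℕ} [hp : Fact p.Prime]
    (hpM : p ∣ Nat.card M) :
    ∃ χ : IrrCharacter G, Off M χ ∧ ¬ p ∣ Cfsg.charDegree (χ : G → ℂ) := by
  classical
  obtain ⟨P⟩ : Nonempty (Sylow p G) := inferInstance
  letI : MulAction (P : Subgroup G) (IrrCharacter M) :=
    { smul := fun x θ => ⟨conjFun (x : G)⁻¹ θ.1, isIrr_conjFun _ θ.2⟩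
      one_smul := fun θ => Subtype.ext (by
        show conjFun ((1 : (P : Subgroup G)) : G)⁻¹ θ.1 = θ.1
        rw [OneMemClass.coe_one, inv_one, conjFun_one])
      mul_smul := fun x y θ => Subtype.ext (by
        show conjFun ((x * y : (P : Subgroup G)) : G)⁻¹ θ.1 =
          conjFun (x : G)⁻¹ (conjFun (y : G)⁻¹ θ.1)
        rw [conjFun_conjFun, Subgroup.coe_mul, mul_inv_rev]) }
  have hdinv : ∀ (x : (P : Subgroup G)) (θ : IrrCharacter M),
      Cfsg.charDegree ((x • θ : IrrCharacter M) : M → ℂ) ^ 2 =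
        Cfsg.charDegree (θ : M → ℂ) ^ 2 := fun x θ => by
    refine congrArg (· ^ 2) ?_
    show Nat.floor ((conjFun (x : G)⁻¹ θ.1 1).re) = Nat.floor ((θ.1 1).re)
    rw [conjFun_apply_one]
  have hmod := Camina.sum_modEq_sum_fixed P.isPGroup'
    (fun θ : IrrCharacter M => Cfsg.charDegree (θ : M → ℂ) ^ 2) hdinv
  have hsum : ∑ θ : IrrCharacter M, Cfsg.charDegree (θ : M → ℂ) ^ 2 = Nat.card M := by
    have := sum_sq_degree (G := M)
    simp only [charDegree_spec'] at this
    exact_mod_cast this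
  rw [hsum] at hmod
  obtain ⟨θ, hθfix, hθ1, hθd⟩ : ∃ θ : IrrCharacter M,
      θ ∈ MulAction.fixedPoints (P : Subgroup G) _ ∧
      θ.1 ≠ (fun _ => 1) ∧ ¬ p ∣ Cfsg.charDegree (θ : M → ℂ) := by
    by_contra! hall
    let one : MulAction.fixedPoints (P : Subgroup G) (IrrCharacter M) :=
      ⟨⟨fun _ => 1, isIrrCharacter_one⟩, fun x => Subtype.ext rfl⟩
    have h1 : Cfsg.charDegree (one.1 : M → ℂ) = 1 := by simp [one, Cfsg.charDegree]
    rw [← Finset.add_sum_erase _ _ (Finset.mem_univ one)] at hmod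
    have h2 : p ∣ ∑ a ∈ Finset.univ.erase one,
        (fun b : MulAction.fixedPoints (P : Subgroup G) (IrrCharacter M) =>
          Cfsg.charDegree (b.1 : M → ℂ) ^ 2) a := by
      refine Finset.dvd_sum fun a ha => dvd_pow (hall a.1 a.2 fun e => ?_) two_ne_zero
      exact Finset.ne_of_mem_erase ha (Subtype.ext (Subtype.ext e))
    have h3 := (Nat.ModEq.dvd_iff hmod dvd_rfl).1 hpM
    simp only [h1, one_pow] at h3
    exact hp.out.not_dvd_one ((Nat.dvd_add_left h2).1 h3)
  -- extension to the preimage of the Sylow subgroup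
  set U := M ⊔ (P : Subgroup G) with hU
  haveI : Fintype U := Fintype.ofFinite U
  haveI : Fintype (M.subgroupOf U) := Fintype.ofFinite _
  let e : M.subgroupOf U ≃* M := Subgroup.subgroupOfEquivOfLe le_sup_left
  have hinert : U ≤ inertia θ.1 :=
    sup_le (le_inertia (isClassFunction_of_isIrr θ.2)) fun x hx => by
      have h1 := congrArg Subtype.val (hθfix (⟨x, hx⟩⁻¹ : (P : Subgroup G)))
      rw [mem_inertia]
      have h2 : conjFun (x⁻¹)⁻¹ θ.1 = θ.1 := h1
      rwa [inv_inv] at h2
  obtain ⟨a, ha⟩ : ∃ a, M.relIndex U = p ^ a := by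
    have h1 : M.relIndex U = M.relIndex (P : Subgroup G) := by
      rw [hU, sup_comm, Subgroup.relIndex_sup_right]
    obtain ⟨j, hj⟩ := IsPGroup.iff_card.1 P.isPGroup'
    obtain ⟨a, -, ha⟩ := (Nat.dvd_prime_pow hp.out).1
      (hj ▸ Subgroup.relIndex_dvd_card M (P : Subgroup G))
    exact ⟨a, h1.trans ha⟩
  obtain ⟨ν, hν⟩ := ProjExt.exists_detChar_hom
    (IsIrr.isCharacter ((isIrrCharacter_comp_equiv e).2 θ.2))
  have hνone : ∀ n, ν n = 1 := fun n =>
    (congrArg ν (e.symm_apply_apply n).symm).trans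
      (hom_eq_one_of_perfect hperf (ν.comp e.symm.toMonoidHom) (e n))
  obtain ⟨η, hη, hηres⟩ := ProjExt.extends_of_det (G := U) (M.subgroupOf U)
    ((isIrrCharacter_comp_equiv e).2 θ.2) (fun g n => by
      have h1 := congrFun (mem_inertia.1 (hinert g.2)) (e n)
      rw [conjFun_apply] at h1
      exact h1)
    (d := Cfsg.charDegree (θ : M → ℂ)) (by simpa using charDegree_spec' θ) (by
      rw [show (M.subgroupOf U).index = p ^ a from ha]
      exact (hp.out.coprime_iff_not_dvd.2 hθd).pow_left a)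
    1 (fun n => by rw [congrFun hν n, hνone]; simp)
  -- a constituent of the induced character
  have hηM : ∀ x : M, η ⟨(x : G), (le_sup_left : M ≤ U) x.2⟩ = (θ : M → ℂ) x := fun x =>
    hηres ⟨⟨(x : G), (le_sup_left : M ≤ U) x.2⟩, x.2⟩
  have hη1 : η 1 = Cfsg.charDegree (θ : M → ℂ) := by
    rw [← charDegree_spec' θ]; exact hηM 1
  obtain ⟨c, hc, hce, -⟩ := IsChar.exists_mult (isCharacter_indFun U (IsIrr.isCharacter hη))
  have hdeg : U.index * Cfsg.charDegree (θ : M → ℂ) =
      ∑ χ : IrrCharacter G, c χ * Cfsg.charDegree (χ : G → ℂ) := by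
    have h1 := congrFun hce 1
    rw [indFun_apply_one, hη1, Finset.sum_apply] at h1
    simp only [Pi.smul_apply, smul_eq_mul, charDegree_spec'] at h1
    exact_mod_cast h1
  obtain ⟨χ, -, hχ⟩ : ∃ χ ∈ (Finset.univ : Finset (IrrCharacter G)),
      ¬ p ∣ c χ * Cfsg.charDegree (χ : G → ℂ) := by
    by_contra! hall
    rcases hp.out.dvd_mul.1 (hdeg ▸ Finset.dvd_sum hall) with h | h
    · exact Sylow.not_dvd_index P (h.trans (Subgroup.index_dvd_of_le le_sup_right))
    · exact hθd h
  refine ⟨χ, ?_, fun h => hχ (h.mul_left _)⟩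
  have hcχ : classInner (fun u : U => (χ : G → ℂ) u) η ≠ 0 := by
    intro h0
    have h1 := classInner_indFun_left U η (isClassFunction_of_isIrr χ.2)
    rw [hc, ← classInner_conj_symm, h0, map_zero, Nat.cast_eq_zero] at h1
    exact hχ (by rw [h1, zero_mul]; exact dvd_zero _)
  -- `θ` lies below `χ`
  have hsub := IsChar.sub_constituent (isCharacter_res U (IsIrr.isCharacter χ.2)) hη hcχ
  have hθc : classInner (fun x : M => (χ : G → ℂ) x) (θ : M → ℂ) ≠ 0 := by
    have heq : (fun x : M => (χ : G → ℂ) x) = (fun x : M => ((fun u : U => (χ : G → ℂ) u) - η)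
        (Subgroup.inclusion (le_sup_left : M ≤ U) x)) + (θ : M → ℂ) := funext fun x => by
      rw [Pi.add_apply, ← hηM x]; simp [Subgroup.inclusion]
    obtain ⟨k, hk⟩ := classInner_isCharacter_eq_natCast
      (isCharacter_comp (Subgroup.inclusion (le_sup_left : M ≤ U)) hsub) (IsIrr.isCharacter θ.2)
    rw [heq, classInner_add_left, hk, classInner_irr_self θ.2, ← Nat.cast_one, ← Nat.cast_add,
      Nat.cast_ne_zero]
    omega
  by_contra hoff
  simp only [Off, not_exists, not_and, not_not] at hoff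
  apply hθc
  have heq : (fun x : M => (χ : G → ℂ) x) = (χ : G → ℂ) 1 • (fun _ : M => (1 : ℂ)) :=
    funext fun x => by simpa using hoff x x.2
  rw [heq, classInner_smul_left, classInner_irr_ne isIrrCharacter_one θ.2 (Ne.symm hθ1), mul_zero]

end Cfsg.Agent.CharThreeDegrees
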