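import Cfsg.Agent.CharThreeDegrees.Perfect
import Cfsg.Agent.Char.PrimeDegreeCount
import Mathlib

/-!
# Products of characters when there are three coprime degrees
-/

set_option autoImplicit false

namespace Cfsg.Agent.CharThreeDegrees

open scoped ComplexConjugate commutatorElement
open Cfsg.Agent.Char

universe u

variable {G : Type u} [Group G] [Fintype G]


theorem classInner_mul_shift (χ ψ φ : G → ℂ) :
    classInner (χ * ψ) φ = classInner χ ((fun g => conj (ψ g)) * φ) := by
  simp [classInner, mul_assoc, mul_comm, mul_left_comm]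

theorem isCharacter_prod (χ ψ : IrrCharacter G) : IsCharacter G ((χ : G → ℂ) * (ψ : G → ℂ)) :=
  isCharacter_mul (IsIrr.isCharacter χ.2) (IsIrr.isCharacter ψ.2)

theorem deg_conjIrr (χ : IrrCharacter G) :
    Cfsg.charDegree (conjIrr χ : G → ℂ) = Cfsg.charDegree (χ : G → ℂ) := by
  simp [Cfsg.charDegree]

/-- Multiplicities in a product, and the degree equation. -/
theorem exists_prod_mult (χ ψ : IrrCharacter G) :
    ∃ c : IrrCharacter G → ℕ,
      (∀ φ : IrrCharacter G, classInner ((χ : G → ℂ) * (ψ : G → ℂ)) (φ : G → ℂ) = c φ) ∧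
      ((χ : G → ℂ) * (ψ : G → ℂ) = ∑ φ : IrrCharacter G, (c φ : ℂ) • (φ : G → ℂ)) ∧
      Cfsg.charDegree (χ : G → ℂ) * Cfsg.charDegree (ψ : G → ℂ) =
        ∑ φ : IrrCharacter G, c φ * Cfsg.charDegree (φ : G → ℂ) := by
  obtain ⟨c, hc, he, -⟩ := IsChar.exists_mult (isCharacter_prod χ ψ)
  refine ⟨c, hc, he, ?_⟩
  have h := congrFun he 1
  rw [Pi.mul_apply, Finset.sum_apply] at h
  simp only [Pi.smul_apply, smul_eq_mul, charDegree_spec'] at h
  exact_mod_cast h

/-- A linear constituent of a product relates the factors. -/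
theorem eq_of_linear_constituent {χ ψ l : IrrCharacter G}
    (hl : Cfsg.charDegree (l : G → ℂ) = 1)
    (h : classInner ((χ : G → ℂ) * (ψ : G → ℂ)) (l : G → ℂ) ≠ 0) :
    (χ : G → ℂ) = fun g => (l : G → ℂ) g * conj ((ψ : G → ℂ) g) := by
  obtain ⟨f, hf⟩ := IsChar.exists_hom (IsIrr.isCharacter l.2)
    (by rw [one_apply_eq_of_deg l hl, Nat.cast_one])
  have hi : IsIrrCharacter G ((fun g => conj ((ψ : G → ℂ) g)) * (l : G → ℂ)) := by
    have h1 := isIrr_twist (conjIrr ψ).2 f
    convert h1 using 1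
    funext g
    rw [Pi.mul_apply, hf, mul_comm]
    rfl
  rw [classInner_mul_shift] at h
  by_contra hne
  refine h (classInner_irr_ne χ.2 hi fun e => hne (e.trans ?_))
  funext g
  rw [Pi.mul_apply, mul_comm]

variable {m n : ℕ}

/-- A product of characters of the two degrees has constituents of only one degree. -/
theorem prod_one_degree (hd : Deg G m n) (hm : 1 < m) (hn : 1 < n) (hcop : m.Coprime n)
    {χ ψ : IrrCharacter G} (hχ : Cfsg.charDegree (χ : G → ℂ) = m)
    (hψ : Cfsg.charDegree (ψ : G → ℂ) = n) :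
    (∀ φ : IrrCharacter G, classInner ((χ : G → ℂ) * (ψ : G → ℂ)) (φ : G → ℂ) ≠ 0 →
      Cfsg.charDegree (φ : G → ℂ) = m) ∨
    ∀ φ : IrrCharacter G, classInner ((χ : G → ℂ) * (ψ : G → ℂ)) (φ : G → ℂ) ≠ 0 →
      Cfsg.charDegree (φ : G → ℂ) = n := by
  classical
  have hne : m ≠ n := fun e => by
    rw [e, Nat.coprime_self] at hcop
    omega
  obtain ⟨c, hc, -, hdeg⟩ := exists_prod_mult χ ψ
  have hlin : ∀ φ : IrrCharacter G, Cfsg.charDegree (φ : G → ℂ) = 1 → c φ = 0 := by
    intro φ hφ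
    by_contra h0
    have h1 := congrFun (eq_of_linear_constituent hφ (by rw [hc]; exact_mod_cast h0)) 1
    rw [charDegree_spec' χ, charDegree_spec' φ, charDegree_spec' ψ, hχ, hφ, hψ, Nat.cast_one,
      one_mul, Complex.conj_natCast, Nat.cast_inj] at h1
    exact hne h1
  set a := ∑ φ : IrrCharacter G, if Cfsg.charDegree (φ : G → ℂ) = m then c φ else 0 with ha
  set b := ∑ φ : IrrCharacter G, if Cfsg.charDegree (φ : G → ℂ) = n then c φ else 0 with hb
  have hsum : m * n = a * m + b * n := by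
    rw [← hχ, ← hψ, hdeg, hψ, hχ, ha, hb, Finset.sum_mul, Finset.sum_mul, ← Finset.sum_add_distrib]
    refine Finset.sum_congr rfl fun φ _ => ?_
    rcases hd φ with h | h | h
    · rw [hlin φ h]; simp
    · rw [h, if_pos rfl, if_neg hne]; simp
    · rw [h, if_neg hne.symm, if_pos rfl]; simp
  have hbm : m ∣ b := hcop.dvd_of_dvd_mul_right
    ((Nat.dvd_add_right (dvd_mul_left m a)).1 (hsum ▸ dvd_mul_right m n))
  have han : n ∣ a := hcop.symm.dvd_of_dvd_mul_right
    ((Nat.dvd_add_left (dvd_mul_left n b)).1 (hsum ▸ dvd_mul_left n m))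
  obtain ⟨b', hb'⟩ := hbm
  obtain ⟨a', ha'⟩ := han
  rw [ha', hb'] at hsum
  have h1 : m * n * (a' + b') = m * n * 1 := by
    rw [mul_one]; conv_rhs => rw [hsum]
    ring
  have h2 := Nat.eq_of_mul_eq_mul_left (Nat.mul_pos (by omega) (by omega)) h1
  have hzero : a = 0 ∨ b = 0 := by
    rcases Nat.eq_zero_or_pos a' with h | h
    · left; rw [ha', h, mul_zero]
    · right
      have : b' = 0 := by omega
      rw [hb', this, mul_zero]
  rcases hzero with h | h
  · refine Or.inr fun φ hφ => ?_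
    rw [hc, Nat.cast_ne_zero] at hφ
    rcases hd φ with h' | h' | h'
    · exact absurd (hlin φ h') hφ
    · refine absurd ?_ hφ
      have := Finset.sum_eq_zero_iff.1 (ha ▸ h) φ (Finset.mem_univ _)
      rwa [if_pos h'] at this
    · exact h'
  · refine Or.inl fun φ hφ => ?_
    rw [hc, Nat.cast_ne_zero] at hφ
    rcases hd φ with h' | h' | h'
    · exact absurd (hlin φ h') hφ
    · exact h'
    · refine absurd ?_ hφ
      have := Finset.sum_eq_zero_iff.1 (hb ▸ h) φ (Finset.mem_univ _)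
      rwa [if_pos h'] at this

/-- A larger constituent of a product of two characters of the smaller degree needs a linear
constituent. -/
theorem exists_linear_constituent (hd : Deg G m n) (hn : 1 < n) (hnm : n < m)
    (hcop : m.Coprime n) {ψ φ χ : IrrCharacter G} (hψ : Cfsg.charDegree (ψ : G → ℂ) = n)
    (hφ : Cfsg.charDegree (φ : G → ℂ) = n) (hχ : Cfsg.charDegree (χ : G → ℂ) = m)
    (hc' : classInner ((φ : G → ℂ) * (ψ : G → ℂ)) (χ : G → ℂ) ≠ 0) :
    ∃ l : IrrCharacter G, Cfsg.charDegree (l : G → ℂ) = 1 ∧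
      classInner ((φ : G → ℂ) * (ψ : G → ℂ)) (l : G → ℂ) ≠ 0 := by
  classical
  obtain ⟨c, hc, -, hdeg⟩ := exists_prod_mult φ ψ
  by_contra hall
  push Not at hall
  have hlin : ∀ η : IrrCharacter G, Cfsg.charDegree (η : G → ℂ) = 1 → c η = 0 := fun η h => by
    have := hall η h
    rwa [hc, Nat.cast_eq_zero] at this
  set a := ∑ η : IrrCharacter G, if Cfsg.charDegree (η : G → ℂ) = m then c η else 0 with ha
  set b := ∑ η : IrrCharacter G, if Cfsg.charDegree (η : G → ℂ) = n then c η else 0 with hb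
  have hsum : n * n = a * m + b * n := by
    conv_lhs => rw [← hφ]; arg 2; rw [hφ, ← hψ]
    rw [hdeg, ha, hb, Finset.sum_mul, Finset.sum_mul, ← Finset.sum_add_distrib]
    refine Finset.sum_congr rfl fun η _ => ?_
    rcases hd η with h | h | h
    · rw [hlin η h]; simp
    · rw [h, if_pos rfl, if_neg hnm.ne']; simp
    · rw [h, if_neg hnm.ne, if_pos rfl]; simp
  have hpos : 0 < a := by
    rw [ha]
    refine Finset.sum_pos' (fun _ _ => Nat.zero_le _) ⟨χ, Finset.mem_univ _, ?_⟩
    rw [if_pos hχ, Nat.pos_iff_ne_zero]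
    rw [hc, Nat.cast_ne_zero] at hc'
    exact hc'
  have hna : n ∣ a := hcop.symm.dvd_of_dvd_mul_right
    ((Nat.dvd_add_left (dvd_mul_left n b)).1 (hsum ▸ dvd_mul_left n n))
  have h1 : n * n < a * m := lt_of_lt_of_le (Nat.mul_lt_mul_of_pos_left hnm (by omega))
    (Nat.mul_le_mul_right m (Nat.le_of_dvd hpos hna))
  omega

variable {M : Subgroup G} [M.Normal] [Fintype M]

omit [M.Normal] [Fintype M] in
/-- Constituents of the smaller degree in a mixed product agree with the smaller factor on `M`. -/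
theorem eq_on_of_constituent (hd : Deg G m n) (hn : 1 < n) (hnm : n < m) (hcop : m.Coprime n)
    (hperf : commutator M = ⊤) {χ ψ φ : IrrCharacter G} (hχ : Cfsg.charDegree (χ : G → ℂ) = m)
    (hψ : Cfsg.charDegree (ψ : G → ℂ) = n) (hφ : Cfsg.charDegree (φ : G → ℂ) = n)
    (h : classInner ((χ : G → ℂ) * (ψ : G → ℂ)) (φ : G → ℂ) ≠ 0) (x : M) :
    (φ : G → ℂ) x = (ψ : G → ℂ) x := by
  have h1 : classInner ((φ : G → ℂ) * (conjIrr ψ : G → ℂ)) (χ : G → ℂ) ≠ 0 := by
    intro h0
    apply h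
    rw [classInner_mul_shift, ← classInner_conj_symm,
      show (fun g => conj ((ψ : G → ℂ) g)) * (φ : G → ℂ) = (φ : G → ℂ) * (conjIrr ψ : G → ℂ) from
        funext fun g => mul_comm _ _, h0, map_zero]
  obtain ⟨l, hl, hlc⟩ := exists_linear_constituent hd hn hnm hcop
    (ψ := conjIrr ψ) ((deg_conjIrr ψ).trans hψ) hφ hχ h1
  have h2 := congrFun (eq_of_linear_constituent hl hlc) (x : G)
  rw [h2, linear_eq_one hperf hl, one_mul]
  simp

end Cfsg.Agent.CharThreeDegrees
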