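import Cfsg.Agent.CharThreeDegrees.Monomial
import Cfsg.Agent.Char.NormalAbelianSylow
import Cfsg.Agent.S4458
import Mathlib

/-!
# Derived series, two degrees, and Taketa's bound for three degrees
-/

set_option autoImplicit false

namespace Cfsg.Agent.CharThreeDegrees

open scoped ComplexConjugate commutatorElement
open Cfsg.Agent.Char

universe u

variable {G : Type u} [Group G]

/-- All degrees are among `1, m, n`. -/
def Deg (G : Type u) [Group G] (m n : ℕ) : Prop :=
  ∀ χ : IrrCharacter G, Cfsg.charDegree (χ : G → ℂ) = 1 ∨ Cfsg.charDegree (χ : G → ℂ) = m ∨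
    Cfsg.charDegree (χ : G → ℂ) = n

theorem Deg.swap {m n : ℕ} (h : Deg G m n) : Deg G n m := fun χ => by
  rcases h χ with h | h | h
  · exact Or.inl h
  · exact Or.inr (Or.inr h)
  · exact Or.inr (Or.inl h)

theorem Deg.quotient {m n : ℕ} (h : Deg G m n) (K : Subgroup G) [K.Normal] : Deg (G ⧸ K) m n :=
  fun χ => h ⟨fun g => (χ : G ⧸ K → ℂ) g, isIrrCharacter_mk K χ.2⟩

theorem one_apply_eq_of_deg [Finite G] (χ : IrrCharacter G) {d : ℕ}
    (h : Cfsg.charDegree (χ : G → ℂ) = d) : (χ : G → ℂ) 1 = d := by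
  rw [charDegree_spec' χ, h]

theorem charDegree_of_one {χ : G → ℂ} {d : ℕ} (h : χ 1 = d) : Cfsg.charDegree χ = d := by
  simp [Cfsg.charDegree, h]

theorem derivedSeries_le_map {X : Subgroup G} {i : ℕ} (h : derivedSeries G i ≤ X) :
    ∀ k, derivedSeries G (i + k) ≤ (derivedSeries X k).map X.subtype := by
  intro k
  induction k with
  | zero => rwa [add_zero, derivedSeries_zero, ← MonoidHom.range_eq_map, Subgroup.range_subtype]
  | succ k ih =>
    rw [← add_assoc, derivedSeries_succ, derivedSeries_succ, Subgroup.map_commutator]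
    exact Subgroup.commutator_mono ih ih

theorem derivedSeries_eq_bot_of_le {X : Subgroup G} {i j : ℕ} (h : derivedSeries G i ≤ X)
    (hX : derivedSeries X j = ⊥) : derivedSeries G (i + j) = ⊥ := by
  have h1 := derivedSeries_le_map h j
  rwa [hX, Subgroup.map_bot, le_bot_iff] at h1

theorem derivedSeries_le_of_quotient (N : Subgroup G) [N.Normal] {k : ℕ}
    (h : derivedSeries (G ⧸ N) k = ⊥) : derivedSeries G k ≤ N := fun x hx => by
  have h1 := map_derivedSeries_le_derivedSeries (QuotientGroup.mk' N) k ⟨x, hx, rfl⟩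
  rw [h, Subgroup.mem_bot] at h1
  exact (QuotientGroup.eq_one_iff x).1 h1

theorem derivedSeries_one_of_comm (h : ∀ a b : G, a * b = b * a) : derivedSeries G 1 = ⊥ := by
  rw [derivedSeries_one, commutator_def, eq_bot_iff, Subgroup.commutator_le]
  exact fun a _ b _ => Subgroup.mem_bot.2 (commutatorElement_eq_one_iff_mul_comm.2 (h a b))

theorem derivedSeries_one_of_degree_one [Finite G]
    (h : ∀ χ : IrrCharacter G, Cfsg.charDegree (χ : G → ℂ) = 1) : derivedSeries G 1 = ⊥ :=
  derivedSeries_one_of_comm (forall_degree_one_iff.1 fun χ => by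
    rw [one_apply_eq_of_deg χ (h χ), Nat.cast_one])

/-- Two degrees give derived length at most two. -/
theorem derivedSeries_two_eq_bot [Finite G] (m : ℕ)
    (h : ∀ χ : IrrCharacter G, Cfsg.charDegree (χ : G → ℂ) = 1 ∨
      Cfsg.charDegree (χ : G → ℂ) = m) : derivedSeries G 2 = ⊥ := by
  by_cases hall : ∀ χ : IrrCharacter G, Cfsg.charDegree (χ : G → ℂ) = 1
  · rw [derivedSeries_succ, derivedSeries_one_of_degree_one hall, Subgroup.commutator_bot_left]
  push Not at hall
  obtain ⟨χ, hχ⟩ := hall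
  have hm := (h χ).resolve_left hχ
  rw [derivedSeries_succ, derivedSeries_one, eq_bot_iff, Subgroup.commutator_le]
  exact fun a ha b hb => Subgroup.mem_bot.2 (commutatorElement_eq_one_iff_mul_comm.2
    (S4458.result m h ⟨χ, hm⟩ (hm ▸ hχ) a ha b hb))

variable [Fintype G]

/-- The step in Taketa's theorem. -/
theorem taketa_step {D : Subgroup G} [D.Normal] (H : Subgroup G) (lam : H →* ℂˣ)
    (hsmall : ∀ ψ : IrrCharacter G, (Cfsg.charDegree (ψ : G → ℂ) < H.index ∨
      Cfsg.charDegree (ψ : G → ℂ) = 1) → ∀ d ∈ D, (ψ : G → ℂ) d = (ψ : G → ℂ) 1)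
    {c : G} (hc : c ∈ ⁅D, D⁆) :
    indFun H (fun h => (lam h : ℂ)) c = indFun H (fun h => (lam h : ℂ)) 1 := by
  classical
  have := Fintype.ofFinite H
  set triv : IrrCharacter G := ⟨_, isIrrCharacter_one⟩ with htriv
  set π := indFun H (fun _ : H => (1 : ℂ)) with hπ
  have hπc : IsCharacter G π := isCharacter_indFun H isCharacter_one
  have hπ1 : π 1 = (H.index : ℂ) := by rw [hπ, indFun_apply_one, mul_one]
  have htriv1 : classInner π (triv : G → ℂ) = 1 := by
    rw [hπ, classInner_indFun_left _ _ (isClassFunction_of_isIrr triv.2)]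
    exact classInner_irr_self isIrrCharacter_one
  have hπD : ∀ d ∈ D, π d = π 1 := by
    intro d hd
    obtain ⟨m, hm, he, -⟩ := IsChar.exists_mult hπc
    rw [he, Finset.sum_apply, Finset.sum_apply]
    refine Finset.sum_congr rfl fun ψ _ => ?_
    simp only [Pi.smul_apply, smul_eq_mul]
    rcases eq_or_ne (m ψ) 0 with h0 | h0
    · simp [h0]
    congr 1
    rcases eq_or_ne ψ triv with rfl | hne
    · rfl
    refine hsmall ψ (Or.inl ?_) d hd
    have hs : IsCharacter G (π - (triv : G → ℂ)) :=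
      IsChar.sub_constituent hπc triv.2 (by rw [htriv1]; exact one_ne_zero)
    have hne0 : classInner (π - (triv : G → ℂ)) (ψ : G → ℂ) ≠ 0 := by
      rw [classInner_sub_left, classInner_irr_ne triv.2 ψ.2 (fun e => hne (Subtype.ext e.symm)),
        sub_zero, hm]
      exact_mod_cast h0
    have hle := IsChar.constituent_degree_le hs ψ.2 hne0
    rw [charDegree_spec' ψ, Pi.sub_apply, hπ1] at hle
    simp [htriv] at hle
    have : (Cfsg.charDegree (ψ : G → ℂ) : ℝ) < (H.index : ℝ) := by linarith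
    exact_mod_cast this
  have hext : ∀ y : G, extendByZero H (fun _ : H => (1 : ℂ)) y = if y ∈ H then 1 else 0 := by
    intro y
    split_ifs with hy
    · exact extendByZero_of_mem H _ hy
    · exact extendByZero_of_not_mem H _ hy
  have hDH : ∀ d ∈ D, ∀ x : G, x⁻¹ * d * x ∈ H := by
    intro d hd x
    have h1 := hπD d hd
    rw [hπ1, hπ, indFun_apply, Finset.sum_congr rfl (fun x _ => hext _), Finset.sum_boole,
      inv_mul_eq_iff_eq_mul₀ card_ne_zero, ← Nat.cast_mul, H.card_mul_index, Nat.cast_inj,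
      Nat.card_eq_fintype_card, ← Finset.card_univ] at h1
    have h2 := Finset.eq_of_subset_of_card_le (Finset.filter_subset _ _) h1.ge
    exact (Finset.mem_filter.1 (h2.symm ▸ Finset.mem_univ x :
      x ∈ Finset.univ.filter fun x => x⁻¹ * d * x ∈ H)).2
  have hle : D ≤ H := fun d hd => by simpa using hDH d hd 1
  have hker : ⁅D, D⁆ ≤ (lam.ker).map H.subtype := by
    rw [Subgroup.commutator_le]
    intro a ha b hb
    refine ⟨⁅(⟨a, hle ha⟩ : H), ⟨b, hle hb⟩⁆, ?_, rfl⟩
    show lam _ = 1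
    rw [map_commutatorElement, commutatorElement_eq_one_iff_mul_comm, mul_comm]
  simp only [indFun_apply]
  congr 1
  refine Finset.sum_congr rfl fun x _ => ?_
  have hx : x⁻¹ * c * x ∈ ⁅D, D⁆ := by
    simpa using (inferInstance : (⁅D, D⁆).Normal).conj_mem c hc x⁻¹
  obtain ⟨k, hk, hkx⟩ := hker hx
  rw [← hkx, mul_one, inv_mul_cancel]
  change extendByZero H _ (k : G) = extendByZero H _ ((1 : H) : G)
  rw [extendByZero_coe, extendByZero_coe, show lam k = 1 from hk, map_one]

/-- A monomial group with at most three degrees has derived length at most three. -/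
theorem derivedSeries_three_of_monomial {a b : ℕ} (hd : Deg G a b)
    (hmon : ∀ χ : IrrCharacter G, ∃ (H : Subgroup G) (lam : H →* ℂˣ),
      (χ : G → ℂ) = indFun H (fun h => (lam h : ℂ))) : derivedSeries G 3 = ⊥ := by
  wlog hab : a ≤ b generalizing a b
  · exact this hd.swap (by omega)
  have hlin : ∀ χ : IrrCharacter G, Cfsg.charDegree (χ : G → ℂ) = 1 →
      ∀ k, 1 ≤ k → ∀ d ∈ derivedSeries G k, (χ : G → ℂ) d = (χ : G → ℂ) 1 := by
    intro χ h k hk d hd'
    have h1 : d ∈ commutator G := derivedSeries_one G ▸ derivedSeries_antitone G hk hd'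
    obtain ⟨f, hf⟩ := IsChar.exists_hom (IsIrr.isCharacter χ.2)
      (by rw [one_apply_eq_of_deg χ h, Nat.cast_one])
    rw [hf]
    simp [hom_commutator_eq_one f h1]
  have step : ∀ (k t : ℕ) (χ : IrrCharacter G), 1 ≤ k → Cfsg.charDegree (χ : G → ℂ) = t →
      (∀ ψ : IrrCharacter G, Cfsg.charDegree (ψ : G → ℂ) < t →
        ∀ d ∈ derivedSeries G k, (ψ : G → ℂ) d = (ψ : G → ℂ) 1) →
      ∀ d ∈ derivedSeries G (k + 1), (χ : G → ℂ) d = (χ : G → ℂ) 1 := by
    intro k t χ hk hχ hsmall d hd'
    obtain ⟨H, lam, hH⟩ := hmon χ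
    have hidx : H.index = t := by
      have h1 : (χ : G → ℂ) 1 = (H.index : ℂ) := by
        rw [hH, indFun_apply_one, map_one, Units.val_one, mul_one]
      rw [charDegree_spec' χ, hχ, Nat.cast_inj] at h1
      exact h1.symm
    rw [hH]
    exact taketa_step (D := derivedSeries G k) H lam (fun ψ hψ => hψ.elim
      (fun h => hsmall ψ (hidx ▸ h)) fun h => hlin ψ h k hk) hd'
  have hA : ∀ χ : IrrCharacter G, Cfsg.charDegree (χ : G → ℂ) = a →
      ∀ d ∈ derivedSeries G 2, (χ : G → ℂ) d = (χ : G → ℂ) 1 := by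
    intro χ hχ
    refine step 1 a χ le_rfl hχ fun ψ hψ => ?_
    rcases hd ψ with h | h | h
    · exact hlin ψ h 1 le_rfl
    · omega
    · omega
  have hB : ∀ χ : IrrCharacter G, Cfsg.charDegree (χ : G → ℂ) = b →
      ∀ d ∈ derivedSeries G 3, (χ : G → ℂ) d = (χ : G → ℂ) 1 := by
    intro χ hχ
    refine step 2 b χ (by omega) hχ fun ψ hψ => ?_
    rcases hd ψ with h | h | h
    · exact hlin ψ h 2 (by omega)
    · exact hA ψ h
    · omega
  rw [eq_bot_iff]
  intro d hd'
  refine Subgroup.mem_bot.2 (eq_one_of_forall_irr fun χ => ?_)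
  rcases hd χ with h | h | h
  · exact hlin χ h 3 (by omega) d hd'
  · exact hA χ h d (derivedSeries_antitone G (by omega) hd')
  · exact hB χ h d hd'

end Cfsg.Agent.CharThreeDegrees
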